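import Cfsg.Agent.Lib.Linear.UniTwo.Word

/-!
# The number of words, weighted by `2 ^ (- h)`
-/

set_option autoImplicit false

namespace Cfsg.Lib.Linear.UniTwo

/-- The number of words. -/
def cnt (m h : ℕ) (o : Bool) : ℕ := (words 1 m h o).length

/-- The weighted count. -/
def wsum (m : ℕ) (o : Bool) (H : ℕ) : ℚ := ∑ h ∈ Finset.range H, (cnt m h o : ℚ) / 2 ^ h

/-- One step of the bounds. -/
def step (m : ℕ) (T : ℚ × ℚ) : ℚ × ℚ :=
  if m % 2 = 1 then
    if m / 2 < 1 then (T.1 / (1 - 1 / 2 ^ m), 0)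
    else (T.1, (T.2 + 2 * (1 / 2 ^ m) * T.1) / (1 - 1 / 2 ^ m))
  else ((T.1 + T.2) / (1 - 1 / 2 ^ m),
    (1 / 2 ^ (m / 2) + 1 / 2 ^ m) * (T.2 + (if 1 < m / 2 then 2 else 1) * T.1) / (1 - 1 / 2 ^ m))

/-- The bounds on the weighted counts in the two states. -/
def bnd : ℕ → ℚ × ℚ
  | 0 => (1, 0)
  | m + 1 => step (m + 1) (bnd m)

theorem wsum_mono {m : ℕ} {o : Bool} {H K : ℕ} (h : H ≤ K) : wsum m o H ≤ wsum m o K :=
  Finset.sum_le_sum_of_subset_of_nonneg (Finset.range_mono h) fun _ _ _ => by positivity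

theorem wsum_nonneg (m : ℕ) (o : Bool) (H : ℕ) : 0 ≤ wsum m o H := Finset.sum_nonneg fun _ _ => by positivity

theorem shift_sum (f : ℕ → ℕ) {a H : ℕ} {b : ℚ} (hb : ∑ h ∈ Finset.range (H - a), (f h : ℚ) / 2 ^ h ≤ b) :
    ∑ h ∈ Finset.range H, ((if a ≤ h then f (h - a) else 0 : ℕ) : ℚ) / 2 ^ h ≤ 1 / 2 ^ a * b := by
  refine le_trans (le_of_eq ?_) (mul_le_mul_of_nonneg_left hb (by positivity))
  rcases Nat.lt_or_ge H a with hH | hH
  · rw [Nat.sub_eq_zero_of_le hH.le, Finset.sum_range_zero, mul_zero]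
    exact Finset.sum_eq_zero fun h hh => by
      rw [if_neg (by rw [Finset.mem_range] at hh; omega)]; simp
  obtain ⟨K, rfl⟩ : ∃ K, H = a + K := ⟨H - a, by omega⟩
  rw [Finset.sum_range_add, Nat.add_sub_cancel_left, Finset.mul_sum, Finset.sum_eq_zero (fun h hh => ?_), zero_add]
  · refine Finset.sum_congr rfl fun h _ => ?_
    rw [if_pos (Nat.le_add_right a h), Nat.add_sub_cancel_left, pow_add, div_mul_div_comm, one_mul]
  · rw [if_neg (by rw [Finset.mem_range] at hh; omega)]; simp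

theorem geo {m : ℕ} {o : Bool} (hm : 1 ≤ m) {b : ℚ} (H : ℕ)
    (h : ∀ K, wsum m o K ≤ b + 1 / 2 ^ m * wsum m o (K - m)) : wsum m o H ≤ b / (1 - 1 / 2 ^ m) := by
  have h1 : (1 : ℚ) / 2 ^ m < 1 := by
    rw [div_lt_one (by positivity)]; exact one_lt_pow₀ (by norm_num) (by omega)
  rw [le_div_iff₀ (by linarith)]
  have h2 := h H
  have h3 := mul_le_mul_of_nonneg_left (wsum_mono (m := m) (o := o) (Nat.sub_le H m)) (show (0 : ℚ) ≤ 1 / 2 ^ m by positivity)
  nlinarith

theorem length_pre (p : Word) (L : List (List Word)) : (pre p L).length = L.length := List.length_map _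

theorem cnt_odd (k h : ℕ) (o : Bool) : cnt (2 * k + 1) h o =
    if k < 1 then (if o then 0 else cnt (2 * k) h false + if 2 * k + 1 ≤ h then cnt (2 * k + 1) (h - (2 * k + 1)) o else 0)
    else if o then cnt (2 * k) h true + (if 2 * k + 1 ≤ h then cnt (2 * k + 1) (h - (2 * k + 1)) o else 0) +
      (if 2 * k + 1 ≤ h then cnt (2 * k) (h - (2 * k + 1)) false + cnt (2 * k) (h - (2 * k + 1)) false else 0)
    else cnt (2 * k) h false := by
  conv_lhs => rw [cnt, words]
  simp only [show (2 * k + 1) % 2 = 1 by omega, show (2 * k + 1) / 2 = k by omega, if_true, dite_eq_ite]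
  split_ifs <;> simp [cnt, length_pre, List.length_append] <;> omega

theorem cnt_even (k h : ℕ) (hk : 1 ≤ k) (o : Bool) : cnt (2 * k) h o =
    if o then (if 2 * k ≤ h then cnt (2 * k) (h - 2 * k) o else 0) +
      (if k ≤ h then cnt (2 * k - 1) (h - k) true + (if 1 < k then 2 else 1) * cnt (2 * k - 1) (h - k) false else 0) +
      (if 2 * k ≤ h then cnt (2 * k - 1) (h - 2 * k) true + (if 1 < k then 2 else 1) * cnt (2 * k - 1) (h - 2 * k) false
        else 0)
    else cnt (2 * k - 1) h false + cnt (2 * k - 1) h true + (if 2 * k ≤ h then cnt (2 * k) (h - 2 * k) o else 0) := by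
  obtain ⟨j, rfl⟩ : ∃ j, k = j + 1 := ⟨k - 1, by omega⟩
  conv_lhs => rw [cnt, show 2 * (j + 1) = (2 * j + 1) + 1 by omega, words]
  simp only [show (2 * j + 1 + 1) % 2 = 0 by omega, show (2 * j + 1 + 1) / 2 = j + 1 by omega,
    show 2 * (j + 1) - 1 = 2 * j + 1 by omega, zero_ne_one, if_false, dite_eq_ite, oneCyc]
  split_ifs <;> simp [cnt, length_pre, List.length_append, show 2 * (j + 1) = 2 * j + 1 + 1 by omega] <;> omega

theorem wsum_bnd : ∀ (m H : ℕ), wsum m false H ≤ (bnd m).1 ∧ wsum m true H ≤ (bnd m).2 := by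
  intro m
  induction m with
  | zero =>
    intro H
    refine ⟨le_trans (le_of_eq (Finset.sum_congr rfl fun h _ => ?_)) (show ∑ h ∈ Finset.range H,
        (if h = 0 then (1 : ℚ) else 0) ≤ 1 from ?_), le_of_eq (Finset.sum_eq_zero fun h _ => ?_)⟩
    · rcases eq_or_ne h 0 with rfl | hh <;> simp [cnt, words, *]
    · rw [Finset.sum_ite_eq' (Finset.range H) 0]; split_ifs <;> norm_num
    · simp [cnt, words]
  | succ m ih =>
    intro H
    rcases Nat.even_or_odd (m + 1) with ⟨k, hk⟩ | ⟨k, hk⟩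
    · obtain rfl : m = 2 * k - 1 := by omega
      have hk1 : 1 ≤ k := by omega
      rw [show 2 * k - 1 + 1 = 2 * k by omega, show bnd (2 * k) = step (2 * k) (bnd (2 * k - 1)) by
        conv_lhs => rw [show 2 * k = (2 * k - 1) + 1 by omega, bnd, show 2 * k - 1 + 1 = 2 * k by omega]]
      rw [step, if_neg (by omega), show 2 * k / 2 = k by omega]
      refine ⟨geo (by omega) H fun K => ?_, geo (by omega) H fun K => ?_⟩
      · rw [wsum]
        conv_lhs => enter [2, h]; rw [cnt_even k h hk1]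
        simp only [Bool.false_eq_true, if_false, Nat.cast_add, add_div, Finset.sum_add_distrib]
        exact add_le_add (add_le_add (ih K).1 (ih K).2) (shift_sum (fun h => cnt (2 * k) h false) le_rfl)
      · rw [wsum]
        conv_lhs => enter [2, h]; rw [cnt_even k h hk1]
        simp only [if_true]
        simp only [Nat.cast_add, add_div, Finset.sum_add_distrib]
        have hc : ∀ H, ∑ h ∈ Finset.range H, ((cnt (2 * k - 1) h true + (if 1 < k then 2 else 1) *
            cnt (2 * k - 1) h false : ℕ) : ℚ) / 2 ^ h ≤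
            (bnd (2 * k - 1)).2 + (if 1 < k then 2 else 1) * (bnd (2 * k - 1)).1 := fun H => by
          simp only [Nat.cast_add, Nat.cast_mul, Nat.cast_ite, Nat.cast_ofNat, Nat.cast_one, add_div, mul_div_assoc,
            Finset.sum_add_distrib, ← Finset.mul_sum]
          exact add_le_add (ih H).2 (mul_le_mul_of_nonneg_left (ih H).1 (by split_ifs <;> norm_num))
        have e1 := shift_sum (H := K) (fun h => cnt (2 * k - 1) h true + (if 1 < k then 2 else 1) *
            cnt (2 * k - 1) h false) (hc (K - k))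
        have e2 := shift_sum (H := K) (fun h => cnt (2 * k - 1) h true + (if 1 < k then 2 else 1) *
            cnt (2 * k - 1) h false) (hc (K - 2 * k))
        have e3 := shift_sum (H := K) (a := 2 * k) (fun h => cnt (2 * k) h true) le_rfl
        rw [show wsum (2 * k) true (K - 2 * k) =
          ∑ h ∈ Finset.range (K - 2 * k), (cnt (2 * k) h true : ℚ) / 2 ^ h from rfl, add_mul]
        linarith
    · obtain rfl : m = 2 * k := by omega
      rw [show bnd (2 * k + 1) = step (2 * k + 1) (bnd (2 * k)) from rfl, step, if_pos (by omega),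
        show (2 * k + 1) / 2 = k by omega]
      split_ifs with hk0
      · refine ⟨geo (by omega) H fun K => ?_, ?_⟩
        · rw [wsum]
          conv_lhs => enter [2, h]; rw [cnt_odd]
          simp only [hk0, if_true, Bool.false_eq_true, if_false, Nat.cast_add, add_div,
            Finset.sum_add_distrib]
          exact add_le_add (ih K).1 (shift_sum (fun h => cnt (2 * k + 1) h false) le_rfl)
        · exact le_of_eq (Finset.sum_eq_zero fun h _ => by rw [cnt_odd, if_pos hk0, if_pos rfl]; simp)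
      · refine ⟨le_trans (le_of_eq (Finset.sum_congr rfl fun h _ => by
            rw [cnt_odd, if_neg hk0, if_neg (by simp)])) (ih H).1,
          geo (by omega) H fun K => ?_⟩
        rw [wsum]
        conv_lhs => enter [2, h]; rw [cnt_odd]
        simp only [hk0, if_true, if_false]
        simp only [Nat.cast_add, add_div, Finset.sum_add_distrib]
        have hc : ∀ H, ∑ h ∈ Finset.range H, ((cnt (2 * k) h false + cnt (2 * k) h false : ℕ) : ℚ) / 2 ^ h ≤
            (bnd (2 * k)).1 + (bnd (2 * k)).1 := fun H => by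
          simp only [Nat.cast_add, add_div, Finset.sum_add_distrib]
          exact add_le_add (ih H).1 (ih H).1
        have e1 := shift_sum (H := K) (fun h => cnt (2 * k) h false + cnt (2 * k) h false) (hc (K - (2 * k + 1)))
        have e3 := shift_sum (H := K) (a := 2 * k + 1) (fun h => cnt (2 * k + 1) h true) le_rfl
        have e0 : ∑ h ∈ Finset.range K, (cnt (2 * k) h true : ℚ) / 2 ^ h ≤ (bnd (2 * k)).2 := (ih K).2
        rw [show wsum (2 * k + 1) true (K - (2 * k + 1)) =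
          ∑ h ∈ Finset.range (K - (2 * k + 1)), (cnt (2 * k + 1) h true : ℚ) / 2 ^ h from rfl]
        linarith

theorem bnd_small : ∀ m ≤ 32, (bnd m).1 + (bnd m).2 ≤ 76 / 5 := by decide +kernel

theorem bnd_base : ((bnd 32).1 + (bnd 32).2) * (1 + 7 * (1 / 2) ^ 16) ≤ 76 / 5 := by decide +kernel

theorem bnd_nonneg : ∀ m, 0 ≤ (bnd m).1 ∧ 0 ≤ (bnd m).2 := fun m =>
  ⟨(wsum_nonneg m false 0).trans (wsum_bnd m 0).1, (wsum_nonneg m true 0).trans (wsum_bnd m 0).2⟩

theorem total_step {k : ℕ} (hk : 16 ≤ k) {u : ℚ} (hu : u = (1 / 2) ^ k) :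
    (bnd (2 * k + 1)).1 + (bnd (2 * k + 1)).2 ≤ ((bnd (2 * k)).1 + (bnd (2 * k)).2) * ((1 + u ^ 2) / (1 - u ^ 2 / 2)) ∧
      (bnd (2 * k + 2)).1 + (bnd (2 * k + 2)).2 ≤
        ((bnd (2 * k + 1)).1 + (bnd (2 * k + 1)).2) * ((1 + u + u ^ 2 / 2) / (1 - u ^ 2 / 4)) := by
  have hu0 : 0 < u := by rw [hu]; positivity
  have hu1 : u ≤ 1 / 2 := by
    rw [hu]; exact (pow_le_pow_of_le_one (by norm_num) (by norm_num) (show 1 ≤ k by omega)).trans_eq (pow_one _)
  have hu2 : u ^ 2 ≤ 1 / 4 := by nlinarith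
  have hpos : 0 < u ^ 2 := by positivity
  have e1 : (1 : ℚ) / 2 ^ (2 * k + 1) = u ^ 2 / 2 := by
    rw [hu, ← pow_mul, div_pow, one_pow, pow_succ, mul_comm k 2, div_div]
  have e2 : (1 : ℚ) / 2 ^ (2 * k + 2) = u ^ 2 / 4 := by
    rw [hu, ← pow_mul, div_pow, one_pow, pow_add, mul_comm k 2, div_div]; norm_num
  have e3 : (1 : ℚ) / 2 ^ (k + 1) = u / 2 := by
    rw [hu, div_pow, one_pow, pow_succ, div_div]
  obtain ⟨a0, b0⟩ := bnd_nonneg (2 * k)
  obtain ⟨a1, b1⟩ := bnd_nonneg (2 * k + 1)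
  constructor
  · rw [show bnd (2 * k + 1) = step (2 * k + 1) (bnd (2 * k)) from rfl, step, if_pos (by omega),
      if_neg (by omega), e1]
    simp only []
    have hd : (0 : ℚ) < 1 - u ^ 2 / 2 := by linarith
    rw [add_div' _ _ _ hd.ne', show ((bnd (2 * k)).1 + (bnd (2 * k)).2) * ((1 + u ^ 2) / (1 - u ^ 2 / 2)) = ((bnd (2 * k)).1 + (bnd (2 * k)).2) * (1 + u ^ 2) / (1 - u ^ 2 / 2) from (mul_div_assoc _ _ _).symm, div_le_div_iff_of_pos_right hd]
    nlinarith [mul_nonneg a0 hpos.le, mul_nonneg b0 hpos.le]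
  · rw [show bnd (2 * k + 2) = step (2 * k + 2) (bnd (2 * k + 1)) from rfl, step, if_neg (by omega),
      show (2 * k + 2) / 2 = k + 1 by omega, if_pos (show 1 < k + 1 by omega), e2, e3]
    simp only []
    rw [← add_div, mul_div_assoc']
    gcongr
    · linarith
    · nlinarith [mul_nonneg a1 hpos.le, mul_nonneg b1 hpos.le, mul_nonneg b1 hu0.le]

theorem bnd_le : ∀ m, (bnd m).1 + (bnd m).2 ≤ 76 / 5 := by
  have key : ∀ k, 16 ≤ k → ((bnd (2 * k)).1 + (bnd (2 * k)).2) * (1 + 7 * (1 / 2) ^ k) ≤ 76 / 5 ∧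
      (bnd (2 * k + 1)).1 + (bnd (2 * k + 1)).2 ≤ 76 / 5 := by
    intro k hk
    induction k, hk using Nat.le_induction with
    | base =>
      refine ⟨bnd_base, (total_step le_rfl rfl).1.trans (le_trans ?_ bnd_base)⟩
      exact mul_le_mul_of_nonneg_left (by norm_num) (add_nonneg (bnd_nonneg _).1 (bnd_nonneg _).2)
    | succ k hk ih =>
      set u : ℚ := (1 / 2) ^ k with hu
      have hu0 : 0 < u := by positivity
      have hu1 : u ≤ 1 / 1024 :=
        (pow_le_pow_of_le_one (by norm_num) (by norm_num) (show 10 ≤ k by omega)).trans_eq (by norm_num)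
      have hu2 : u ^ 2 ≤ u / 1024 := by nlinarith
      have hd1 : (1 + u ^ 2) / (1 - u ^ 2 / 2) ≤ 1 + u / 10 := by
        rw [div_le_iff₀ (by nlinarith)]; nlinarith
      have hd2 : (1 + u + u ^ 2 / 2) / (1 - u ^ 2 / 4) ≤ 1 + 11 / 10 * u := by
        rw [div_le_iff₀ (by nlinarith)]; nlinarith
      obtain ⟨h1, h2⟩ := total_step hk hu
      have hT := add_nonneg (bnd_nonneg (2 * k)).1 (bnd_nonneg (2 * k)).2
      have h3 := h1.trans (mul_le_mul_of_nonneg_left hd1 hT)
      have h4 := h2.trans ((mul_le_mul_of_nonneg_left hd2 (add_nonneg (bnd_nonneg _).1 (bnd_nonneg _).2)).trans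
        (mul_le_mul_of_nonneg_right h3 (by positivity)))
      rw [show 2 * (k + 1) = 2 * k + 2 by ring, pow_succ]
      have hT2 := add_nonneg (bnd_nonneg (2 * k + 2)).1 (bnd_nonneg (2 * k + 2)).2
      have hA : (1 + u / 10) * (1 + 11 / 10 * u) * (1 + 7 * (u * (1 / 2))) ≤ 1 + 7 * u := by
        nlinarith [mul_le_mul_of_nonneg_left hu1 (sq_nonneg u)]
      have h5 : ((bnd (2 * k + 2)).1 + (bnd (2 * k + 2)).2) * (1 + 7 * (u * (1 / 2))) ≤ 76 / 5 :=
        le_trans (mul_le_mul_of_nonneg_right h4 (by positivity))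
          (le_trans (le_trans (le_of_eq (by ring)) (mul_le_mul_of_nonneg_left hA hT)) ih.1)
      refine ⟨h5, ((total_step (show 16 ≤ k + 1 by omega) rfl).1.trans ?_).trans h5⟩
      refine mul_le_mul_of_nonneg_left ?_ hT2
      rw [show (1 / 2 : ℚ) ^ (k + 1) = u * (1 / 2) by rw [hu, pow_succ], div_le_iff₀ (by nlinarith)]
      nlinarith
  intro m
  rcases Nat.lt_or_ge m 32 with hm | hm
  · exact bnd_small m hm.le
  rcases Nat.even_or_odd m with ⟨k, hk⟩ | ⟨k, hk⟩
  · obtain rfl : m = 2 * k := by omega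
    refine le_trans (le_mul_of_one_le_right (add_nonneg (bnd_nonneg _).1 (bnd_nonneg _).2) ?_) (key k (by omega)).1
    exact le_add_of_nonneg_right (by positivity)
  · obtain rfl : m = 2 * k + 1 := by omega
    exact (key k (by omega)).2

/-- The weighted number of words is at most `15.2`. -/
theorem sum_cnt_le (D H : ℕ) :
    ∑ h ∈ Finset.range H, ((cnt D h false + cnt D h true : ℕ) : ℚ) / 2 ^ h ≤ 76 / 5 := by
  simp only [Nat.cast_add, add_div, Finset.sum_add_distrib]
  exact (add_le_add (wsum_bnd D H).1 (wsum_bnd D H).2).trans (bnd_le D)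

end Cfsg.Lib.Linear.UniTwo
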