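import Cfsg.Agent.Lib.Linear.UniTwo.Word

/-!
# The block sizes of a word, and the parity of the dimension
-/

set_option autoImplicit false

universe u v

namespace Cfsg.Lib.Linear.UniTwo

/-- The number of blocks of size `e` in a word. -/
def Word.blocks : Word → ℕ → ℕ
  | .pair m _, e => if e = m then 2 else 0
  | .cyc k _, e => if e = 2 * k then 1 else 0

/-- The profile of a word. -/
def profile : List Word → ℕ → ℕ
  | [], _ => 0
  | p :: w, e => p.blocks e + profile w e

variable {F : Type u} [Field F] [CharP F 2]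
variable {V : Type v} [AddCommGroup V] [Module F V]
variable {s : ℕ} {n : Module.End F V} {B : LinearMap.BilinForm F V} {R : V → F}

/-- The rank of `n ^ e` on a subspace. -/
noncomputable def rkOn (n : Module.End F V) (U : Submodule F V) (e : ℕ) : ℕ :=
  Module.finrank F ↥(U.map (n ^ e))

omit [CharP F 2] in
theorem map_pow_le {U : Submodule F V} (hU : ∀ x ∈ U, n x ∈ U) : ∀ e, U.map (n ^ e) ≤ U
  | 0 => by rintro _ ⟨x, hx, rfl⟩; rwa [pow_zero_apply]
  | e + 1 => by
    rintro _ ⟨x, hx, rfl⟩
    rw [pow_succ', Module.End.mul_apply]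
    exact hU _ (map_pow_le hU e ⟨x, hx, rfl⟩)

theorem rk_gens (h : IsSys s n B R) {r m : ℕ} {v : Fin r → V} (hz : ∀ i, (n ^ m) (v i) = 0)
    (htop : ∀ c : Fin r → F, (∀ j, ∑ i, c i * B ((n ^ (m - 1)) (v i)) (v j) = 0) → c = 0) (e : ℕ) :
    rkOn n (gens n m v) e = r * (m - e) := by
  let f : Fin r × Fin (m - e) → Fin r × Fin m := fun p => (p.1, ⟨p.2 + e, by omega⟩)
  have hf : Function.Injective f := fun p q hpq => by
    simp only [f, Prod.mk.injEq, Fin.mk.injEq, Nat.add_right_cancel_iff] at hpq
    exact Prod.ext hpq.1 (Fin.ext hpq.2)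
  have hmap : (gens n m v).map (n ^ e) = Submodule.span F (Set.range (gen n m v ∘ f)) := by
    rw [gens, Submodule.map_span]
    refine le_antisymm (Submodule.span_le.2 ?_) (Submodule.span_le.2 ?_)
    · rintro _ ⟨_, ⟨⟨i, a⟩, rfl⟩, rfl⟩
      rw [gen, pp]
      rcases Nat.lt_or_ge (e + a) m with h1 | h1
      · exact Submodule.subset_span ⟨(i, ⟨a, by omega⟩), by simp [f, gen, Nat.add_comm]⟩
      · rw [pow_eq_zero_le (hz i) h1]; exact zero_mem _
    · rintro _ ⟨⟨i, a⟩, rfl⟩
      refine Submodule.subset_span ⟨_, ⟨(i, ⟨a, by omega⟩), rfl⟩, ?_⟩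
      simp [f, gen, pp, Nat.add_comm]
  rw [rkOn, hmap, finrank_span_eq_card ((linearIndependent_gen h hz htop).comp f hf), Fintype.card_prod,
    Fintype.card_fin, Fintype.card_fin]

variable [FiniteDimensional F V]

theorem rk_sup (h : IsSys s n B R) {r m : ℕ} {v : Fin r → V} (hz : ∀ i, (n ^ m) (v i) = 0)
    (htop : ∀ c : Fin r → F, (∀ j, ∑ i, c i * B ((n ^ (m - 1)) (v i)) (v j) = 0) → c = 0) {U : Submodule F V}
    (hU : ∀ x ∈ U, n x ∈ U) (hperp : U ≤ perp B (gens n m v)) (e : ℕ) :
    rkOn n (gens n m v ⊔ U) e = r * (m - e) + rkOn n U e := by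
  rw [← rk_gens h hz htop e, rkOn, rkOn, rkOn, Submodule.map_sup]
  have h1 := Submodule.finrank_sup_add_finrank_inf_eq ((gens n m v).map (n ^ e)) (U.map (n ^ e))
  have h2 : (gens n m v).map (n ^ e) ⊓ U.map (n ^ e) = ⊥ :=
    eq_bot_iff.2 fun x hx => (Submodule.mem_bot F).2 (gens_disjoint h hz htop
      (map_pow_le (gens_inv hz) e hx.1) (hperp (map_pow_le hU e hx.2)))
  rwa [h2, finrank_bot, Nat.add_zero] at h1

/-- The word determines the block sizes. -/
theorem rk_second_diff (h : IsSys s n B R) {a : F} : ∀ (w : List Word) {U : Submodule F V},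
    Real s n B R a w U → ∀ e, (rkOn n U e : ℤ) + rkOn n U (e + 2) - 2 * rkOn n U (e + 1) = profile w (e + 1)
  | [], U, hw, e => by
    rw [Real] at hw
    subst hw
    have h0 : ∀ e, rkOn n (⊥ : Submodule F V) e = 0 := fun e => by
      have hb : (⊥ : Submodule F V).map (n ^ e) = ⊥ := Submodule.map_bot _
      unfold rkOn
      rw [hb]
      exact finrank_bot F V
    simp [h0, profile]
  | p :: w, U, hw, e => by
    obtain ⟨P, hP, hle, hdec, hs, hr⟩ := hw
    have ih := rk_second_diff h w hr e
    have hU : U = P ⊔ (U ⊓ perp B P) := le_antisymm hdec (sup_le hle inf_le_left)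
    rcases p with ⟨m, α⟩ | ⟨k, α⟩
    · obtain ⟨x, y, q, -, -, rfl⟩ := hP
      have key := rk_sup h (v := ![x, y]) (fun i => by fin_cases i <;> simp [q.kx, q.ky])
        (fun c hc => by
          have h0 := hc 0
          have h1 := hc 1
          simp only [Fin.sum_univ_two, Matrix.cons_val_zero, Matrix.cons_val_one, q.selfx h, q.selfy h, q.one,
            q.one' h, mul_zero, mul_one, zero_add, add_zero] at h0 h1
          funext i
          fin_cases i
          exacts [h1, h0]) hs.inv inf_le_right
      have := q.pos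
      rw [hU, key, key, key]
      simp only [profile, Word.blocks]
      split_ifs <;> omega
    · obtain ⟨x, q, -, rfl⟩ := hP
      have key := rk_sup h (v := ![x]) (fun i => by fin_cases i; simp [q.killed])
        (fun c hc => by
          have h0 := hc 0
          simp only [Fin.sum_univ_one, Matrix.cons_val_zero, q.self h, mul_one] at h0
          funext i
          fin_cases i
          exact h0) hs.inv inf_le_right
      have := q.pos
      rw [hU, key, key, key]
      simp only [profile, Word.blocks]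
      split_ifs <;> omega

/-- A nondegenerate alternating form lives in even dimension. -/
theorem even_finrank (halt : ∀ x, B x x = 0) : ∀ (d : ℕ) (U : Submodule F V), Module.finrank F U = d →
    (∀ x ∈ U, (∀ y ∈ U, B x y = 0) → x = 0) → (∀ x, (∀ y, B x y = 0) → x = 0) → Even d := by
  intro d
  induction d using Nat.strong_induction_on with
  | _ d ih =>
    intro U hd hsep hnd
    rcases Nat.eq_zero_or_pos d with rfl | hpos
    · exact Even.zero
    have h : IsSys 1 (0 : Module.End F V) B (fun _ => 0) :=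
      ⟨le_rfl, halt, hnd, fun x y => by simp, fun c x => by simp, fun x y => by simp, fun x => by simp⟩
    have hU : Sub (0 : Module.End F V) B U := ⟨fun x _ => by simp, hsep⟩
    obtain ⟨x, hx, hx0⟩ : ∃ x ∈ U, x ≠ 0 := by
      by_contra hall
      push Not at hall
      rw [show U = ⊥ from eq_bot_iff.2 fun x hx => (Submodule.mem_bot F).2 (hall x hx), finrank_bot] at hd
      omega
    obtain ⟨y, hy, hy1⟩ : ∃ y ∈ U, B x y ≠ 0 := by
      by_contra hall
      push Not at hall
      exact hx0 (hsep x hx hall)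
    obtain ⟨h1, h2, h3, h4⟩ := split_sub (m := 1) (v := ![x, (B x y)⁻¹ • y]) h hU
      (fun i => by rw [pow_one]; rfl)
      (fun c hc => by
        have h0 := hc 0
        have h1 := hc 1
        simp only [Fin.sum_univ_two, Matrix.cons_val_zero, Matrix.cons_val_one, Nat.sub_self, pow_zero_apply,
          map_smul, LinearMap.smul_apply, smul_eq_mul, halt, h.symm x y, inv_mul_cancel₀ hy1, mul_zero, mul_one,
          zero_add, add_zero] at h0 h1
        funext i
        fin_cases i
        exacts [h1, h0])
      (fun i => by fin_cases i; exacts [hx, U.smul_mem _ hy])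
    obtain ⟨t, ht⟩ := ih _ (by omega) _ rfl h3.sep hnd
    exact ⟨t + 1, by omega⟩

end Cfsg.Lib.Linear.UniTwo
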