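import Cfsg.Agent.Lib.Linear.UniTwo.Word

/-!
# The sign of a word

The Gauss sum of the quadratic form over a sum of pieces is positive or negative according to the number of
pieces of the second type.
-/

set_option autoImplicit false

universe u v w

namespace Cfsg.Lib.Linear.UniTwo

variable {F : Type u} [Field F] [CharP F 2] [Finite F]

section Psi

open scoped Classical in
/-- The additive character with kernel the values `c ^ 2 + c`. -/
noncomputable def psi (a : F) : ℤ := if a ∈ (artin F).range then 1 else -1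

theorem psi_zero : psi (0 : F) = 1 := if_pos (zero_mem _)

theorem psi_of_not_mem {a : F} (h : a ∉ (artin F).range) : psi a = -1 := if_neg h

theorem psi_add (a b : F) : psi (a + b) = psi a * psi b := by
  by_cases ha : a ∈ (artin F).range <;> by_cases hb : b ∈ (artin F).range
  · rw [psi, psi, psi, if_pos ha, if_pos hb, if_pos (add_mem ha hb)]; rfl
  · rw [psi, psi, psi, if_pos ha, if_neg hb, if_neg fun h => hb ((AddSubgroup.add_mem_cancel_left _ ha).1 h)]; rfl
  · rw [psi, psi, psi, if_neg ha, if_pos hb, if_neg fun h => ha ((AddSubgroup.add_mem_cancel_right _ hb).1 h)]; rfl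
  · have hab : a + b ∈ (artin F).range := by
      rcases artin_cases ha b with h | h
      · exact absurd h hb
      · rwa [add_comm]
    rw [psi, psi, psi, if_pos hab, if_neg ha, if_neg hb]; rfl

theorem sum_psi_zero {G : Type*} [AddGroup G] [Fintype G] (f : G → F) (hf : ∀ x y, f (x + y) = f x + f y)
    {x₀ : G} (hx : f x₀ ∉ (artin F).range) : ∑ x, psi (f x) = 0 := by
  have h := Equiv.sum_comp (Equiv.addLeft x₀) fun x => psi (f x)
  simp only [Equiv.coe_addLeft, hf, psi_add, psi_of_not_mem hx, neg_mul, one_mul, Finset.sum_neg_distrib] at h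
  omega

end Psi

variable {V : Type v} [AddCommGroup V] [Module F V] [Finite V]
variable {s : ℕ} {n : Module.End F V} {B : LinearMap.BilinForm F V} {R : V → F}

/-- The Gauss sum of `R` over a subspace. -/
noncomputable def gauss (R : V → F) (U : Submodule F V) : ℤ :=
  haveI := Fintype.ofFinite U
  ∑ x : U, psi (R (x : V))

theorem gauss_eq [Fintype V] (R : V → F) (U : Submodule F V) [Fintype U] :
    gauss R U = ∑ x : U, psi (R (x : V)) := by
  unfold gauss
  convert rfl

/-- The Gauss sum is multiplicative on orthogonal sums. -/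
theorem gauss_sup (h : IsSys 0 n B R) {P U : Submodule F V} (hU : U ≤ perp B P) (hdis : P ⊓ U = ⊥) :
    gauss R (P ⊔ U) = gauss R P * gauss R U := by
  classical
  haveI := Fintype.ofFinite V
  rw [gauss_eq, gauss_eq, gauss_eq, Fintype.sum_mul_sum, ← Fintype.sum_prod_type']
  refine (Fintype.sum_bijective (fun p : P × U => (⟨p.1.1 + p.2.1, Submodule.add_mem_sup p.1.2 p.2.2⟩ : ↥(P ⊔ U)))
    ⟨fun p q hpq => ?_, fun x => ?_⟩ _ _ fun p => ?_).symm
  · have h1 : p.1.1 + p.2.1 = q.1.1 + q.2.1 := congrArg Subtype.val hpq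
    have h2 : p.1.1 - q.1.1 = q.2.1 - p.2.1 := by rw [sub_eq_sub_iff_add_eq_add, h1, add_comm]
    have h3 : p.1.1 - q.1.1 = 0 := (Submodule.mem_bot F).1 (hdis ▸ ⟨sub_mem p.1.2 q.1.2, h2 ▸ sub_mem q.2.2 p.2.2⟩)
    rw [h3, eq_comm, sub_eq_zero] at h2
    exact Prod.ext (Subtype.ext (sub_eq_zero.1 h3)) (Subtype.ext h2.symm)
  · obtain ⟨a, ha, b, hb, hab⟩ := Submodule.mem_sup.1 x.2
    exact ⟨(⟨a, ha⟩, ⟨b, hb⟩), Subtype.ext hab⟩
  · show psi (R p.1.1) * psi (R p.2.1) = psi (R (p.1.1 + p.2.1))
    rw [h.radd, pow_zero_apply, pow_zero_apply, hU p.2.2 _ p.1.2, add_zero, psi_add]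

theorem gauss_zero {U : Submodule F V} (hR : ∀ x ∈ U, R x = 0) : gauss R U = Nat.card U := by
  classical
  haveI := Fintype.ofFinite V
  rw [gauss_eq, Finset.sum_congr rfl fun (x : U) _ => by rw [hR x.1 x.2, psi_zero], Finset.sum_const, Finset.card_univ,
    Nat.card_eq_fintype_card]
  simp

/-- A totally singular subspace reduces the sum to its orthogonal space. -/
theorem gauss_reduce (h : IsSys 0 n B R) {P L Z : Submodule F V} (hLP : L ≤ P) (hR : ∀ x ∈ L, R x = 0)
    (hperp : P ⊓ perp B L = L ⊔ Z) (hdis : L ⊓ Z = ⊥) : gauss R P = Nat.card L * gauss R Z := by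
  classical
  haveI := Fintype.ofFinite V
  have hZ : Z ≤ perp B L := fun z hz => (hperp.ge (Submodule.mem_sup_right hz)).2
  rw [← gauss_zero hR, ← gauss_sup h hZ hdis, ← hperp]
  have hc : (Fintype.card L : ℤ) ≠ 0 := by exact_mod_cast Fintype.card_ne_zero
  refine mul_left_cancel₀ hc ?_
  have hshift : ∀ l : L, gauss R P = ∑ p : P, psi (R p.1) * psi (B p.1 l.1) := fun l => by
    rw [gauss_eq, ← Equiv.sum_comp (Equiv.addRight (⟨l.1, hLP l.2⟩ : P)) fun x : P => psi (R x.1)]
    refine Finset.sum_congr rfl fun p _ => ?_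
    show psi (R (p.1 + l.1)) = _
    rw [h.radd, hR l.1 l.2, add_zero, psi_add, pow_zero_apply, pow_zero_apply]
  have hinner : ∀ p : P, ∑ l : L, psi (B p.1 l.1) = if p.1 ∈ perp B L then (Fintype.card L : ℤ) else 0 := fun p => by
    split_ifs with hp
    · rw [Finset.sum_congr rfl fun (l : L) _ => by rw [h.symm, hp l.1 l.2, psi_zero]]
      simp
    · obtain ⟨l, hl, hne⟩ : ∃ l ∈ L, B p.1 l ≠ 0 := by
        by_contra hall
        push Not at hall
        exact hp fun q hq => by rw [h.symm]; exact hall q hq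
      obtain ⟨a, ha⟩ := exists_not_artin (F := F)
      refine sum_psi_zero (fun l : L => B p.1 l.1) (fun x y => map_add _ _ _)
        (x₀ := (a / B p.1 l) • (⟨l, hl⟩ : L)) ?_
      rw [Submodule.coe_smul, map_smul, smul_eq_mul, div_mul_cancel₀ _ hne]
      exact ha
  calc (Fintype.card L : ℤ) * gauss R P = ∑ _l : L, gauss R P := by simp
    _ = ∑ p : P, psi (R p.1) * ∑ l : L, psi (B p.1 l.1) := by
      rw [Finset.sum_congr rfl fun l _ => hshift l, Finset.sum_comm]
      simp only [Finset.mul_sum]
    _ = ∑ p ∈ Finset.univ.filter (fun p : P => p.1 ∈ perp B L), psi (R p.1) * (Fintype.card L : ℤ) := by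
      simp only [hinner, mul_ite, mul_zero, Finset.sum_filter]
    _ = _ := by
      rw [gauss_eq, ← Finset.sum_mul, mul_comm]
      congr 1
      refine Finset.sum_bij (fun p hp => (⟨p.1, p.2, (Finset.mem_filter.1 hp).2⟩ : ↥(P ⊓ perp B L)))
        (fun _ _ => Finset.mem_univ _) (fun p _ q _ hpq => Subtype.ext (congrArg (fun z : ↥(P ⊓ perp B L) => z.1) hpq))
        (fun x _ => ⟨⟨x.1, x.2.1⟩, Finset.mem_filter.2 ⟨Finset.mem_univ _, x.2.2⟩, rfl⟩) fun _ _ => rfl

/-- The binary form with `B u w = 1`. -/
theorem gauss_binary (h : IsSys 0 n B R) {u w : V} (huw : B u w = 1) :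
    (R u = 0 → 0 < gauss R (Submodule.span F {u, w})) ∧
      (R u = 1 → R w ∉ (artin F).range → gauss R (Submodule.span F {u, w}) < 0) := by
  classical
  haveI := Fintype.ofFinite V
  haveI := Fintype.ofFinite F
  have hR : ∀ a b : F, R (a • u + b • w) = a ^ 2 * R u + b ^ 2 * R w + a * b := fun a b => by
    rw [h.radd, h.rsmul, h.rsmul, pow_zero_apply, pow_zero_apply, map_smul, map_smul, LinearMap.smul_apply, huw]
    simp [mul_comm]
  let Φ : F × F → ↥(Submodule.span F {u, w}) := fun p =>
    ⟨p.1 • u + p.2 • w, Submodule.mem_span_pair.2 ⟨p.1, p.2, rfl⟩⟩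
  have hΦ : Function.Bijective Φ := by
    refine ⟨fun p q hpq => ?_, fun x => ?_⟩
    · have h1 : p.1 • u + p.2 • w = q.1 • u + q.2 • w := congrArg Subtype.val hpq
      have h2 := congrArg (fun x => B x w) h1
      have h3 := congrArg (fun x => B u x) h1
      simp only [map_add, map_smul, LinearMap.add_apply, LinearMap.smul_apply, h.alt, huw, smul_eq_mul, mul_one,
        mul_zero, add_zero, zero_add] at h2 h3
      exact Prod.ext h2 h3
    · obtain ⟨a, b, hab⟩ := Submodule.mem_span_pair.1 x.2
      exact ⟨(a, b), Subtype.ext hab⟩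
  have key : gauss R (Submodule.span F {u, w}) = ∑ b : F, psi (b ^ 2 * R w) * ∑ a : F, psi (a ^ 2 * R u + a * b) := by
    rw [gauss_eq, ← Fintype.sum_bijective Φ hΦ (fun p => psi (R (p.1 • u + p.2 • w))) _ (fun _ => rfl),
      Fintype.sum_prod_type_right]
    refine Finset.sum_congr rfl fun b _ => ?_
    rw [Finset.mul_sum]
    refine Finset.sum_congr rfl fun a _ => ?_
    rw [hR, ← psi_add]
    congr 1
    ring
  obtain ⟨a₀, ha₀⟩ := exists_not_artin (F := F)
  have hpos : (0 : ℤ) < Fintype.card F := by exact_mod_cast Fintype.card_pos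
  refine ⟨fun hu => ?_, fun hu hw => ?_⟩
  · have hin : ∀ b : F, ∑ a : F, psi (a ^ 2 * R u + a * b) = if b = 0 then (Fintype.card F : ℤ) else 0 := fun b => by
      split_ifs with hb
      · simp [hu, hb, psi_zero]
      · refine sum_psi_zero _ (fun x y => by rw [hu]; ring) (x₀ := a₀ / b) ?_
        rwa [hu, mul_zero, zero_add, div_mul_cancel₀ _ hb]
    rw [key]
    simp only [hin, mul_ite, mul_zero, Finset.sum_ite_eq', Finset.mem_univ, if_true]
    simpa [psi_zero] using hpos
  · have hin : ∀ b : F, ∑ a : F, psi (a ^ 2 * R u + a * b) = if b = 1 then (Fintype.card F : ℤ) else 0 := fun b => by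
      split_ifs with hb
      · have h1 : ∀ a : F, psi (a ^ 2 * R u + a * b) = 1 := fun a => by
          rw [hu, hb, mul_one, mul_one, ← artin_apply]
          exact if_pos ⟨a, rfl⟩
        simp [h1]
      · have hb' : 1 + b ≠ 0 := fun h0 => hb (CharTwo.add_eq_zero.1 h0).symm
        refine sum_psi_zero _ (fun x y => by rw [CharTwo.add_sq]; ring) (x₀ := a₀ / (1 + b)) fun hmem => ha₀ ?_
        set c := a₀ / (1 + b) with hc
        have h1 := add_mem hmem (show artin F c ∈ (artin F).range from ⟨c, rfl⟩)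
        rwa [hu, mul_one, artin_apply, show c ^ 2 + c * b + (c ^ 2 + c) = c * (1 + b) by
          linear_combination CharTwo.add_self_eq_zero (c ^ 2), hc, div_mul_cancel₀ _ hb'] at h1
    rw [key]
    simp only [hin, mul_ite, mul_zero, Finset.sum_ite_eq', Finset.mem_univ, if_true, one_pow, one_mul,
      psi_of_not_mem hw]
    linarith

omit [Finite F] [Finite V] in
/-- Coefficients low against the top part of a piece vanish. -/
theorem coeff_low (h : IsSys s n B R) {r m : ℕ} {v : Fin r → V} (hz : ∀ i, (n ^ m) (v i) = 0)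
    (htop : ∀ c : Fin r → F, (∀ j, ∑ i, c i * B ((n ^ (m - 1)) (v i)) (v j) = 0) → c = 0) {b₀ : ℕ}
    {c : Fin r × Fin m → F} (hc : ∀ p : Fin r × Fin m, b₀ ≤ (p.2 : ℕ) → B (gen n m v p) (∑ p', c p' • gen n m v p') = 0) :
    ∀ p : Fin r × Fin m, (p.2 : ℕ) + b₀ < m → c p = 0 := by
  classical
  suffices key : ∀ l, ∀ p : Fin r × Fin m, (p.2 : ℕ) < l → (p.2 : ℕ) + b₀ < m → c p = 0 from
    fun p hp => key m p p.2.isLt hp
  intro l
  induction l with
  | zero => intro p hp; omega
  | succ l ih =>
    intro p hp hpb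
    rcases Nat.lt_succ_iff_lt_or_eq.1 hp with h1 | h1
    · exact ih p h1 hpb
    have hlm : l < m := h1 ▸ p.2.isLt
    have hd := htop (fun i => c (i, ⟨l, hlm⟩)) fun j => ?_
    · have := congrFun hd p.1
      rw [show p = (p.1, ⟨l, hlm⟩) from Prod.ext rfl (Fin.ext h1)]
      exact this
    have h2 := hc (j, ⟨m - 1 - l, by omega⟩) (by show b₀ ≤ m - 1 - l; omega)
    simp only [map_sum, map_smul, smul_eq_mul, gen, Fintype.sum_prod_type] at h2
    rw [← h2]
    refine Finset.sum_congr rfl fun i _ => ?_
    rw [Finset.sum_eq_single_of_mem (⟨l, hlm⟩ : Fin m) (Finset.mem_univ _)]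
    · rw [h.top l (m - 1 - l) (pow_eq_zero_le (hz j) (by omega)), show m - 1 - l + l = m - 1 by omega,
        h.top_symm (pow_eq_zero_le (hz i) (by omega))]
    · intro b _ hb
      rcases lt_trichotomy (b : ℕ) l with h3 | h3 | h3
      · rw [ih (i, b) h3 (by show (b : ℕ) + b₀ < m; omega), zero_mul]
      · exact absurd (Fin.ext h3) hb
      · rw [h.mul_zero_left (b : ℕ) (m - 1 - l) (pow_eq_zero_le (hz j) (by omega)), mul_zero]

/-- The span of the generators with exponent in a range. -/
def band {r : ℕ} (n : Module.End F V) (m : ℕ) (v : Fin r → V) (lo hi : ℕ) : Submodule F V :=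
  Submodule.span F (gen n m v '' {p | lo ≤ (p.2 : ℕ) ∧ (p.2 : ℕ) < hi})

/-- The Gauss sum of a piece is that of its middle, up to a positive factor. -/
theorem gauss_gens (h : IsSys 0 n B R) {r m lo hi : ℕ} {v : Fin r → V} (hz : ∀ i, (n ^ m) (v i) = 0)
    (htop : ∀ c : Fin r → F, (∀ j, ∑ i, c i * B ((n ^ (m - 1)) (v i)) (v j) = 0) → c = 0)
    (hlo : lo ≤ hi) (hsum : lo + hi = m) (hR : ∀ i a, hi ≤ a → R ((n ^ a) (v i)) = 0) :
    ∃ c : ℤ, 0 < c ∧ gauss R (gens n m v) = c * gauss R (band n m v lo hi) := by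
  classical
  set L := band n m v hi m with hL
  set Z := band n m v lo hi with hZ
  have hLP : L ≤ gens n m v := Submodule.span_mono (Set.image_subset_range _ _)
  have hzero : ∀ p q : Fin r × Fin m, m ≤ (p.2 : ℕ) + q.2 → B (gen n m v p) (gen n m v q) = 0 := fun p q hpq =>
    h.mul_zero_left q.2 p.2 (pow_eq_zero_le (hz _) hpq) _
  have hort : ∀ x ∈ L, ∀ y ∈ L ⊔ Z, B x y = 0 := fun x hx y hy => by
    have hy' : y ∈ Submodule.span F (gen n m v '' {p : Fin r × Fin m | lo ≤ (p.2 : ℕ)}) := by
      have hle : L ⊔ Z ≤ Submodule.span F (gen n m v '' {p : Fin r × Fin m | lo ≤ (p.2 : ℕ)}) :=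
        sup_le (Submodule.span_mono (Set.image_mono fun p hp => le_trans hlo hp.1))
          (Submodule.span_mono (Set.image_mono fun p hp => hp.1))
      exact hle hy
    clear hy
    induction hx, hy' using Submodule.span_induction₂ with
    | mem_mem x y hx hy =>
      obtain ⟨p, hp, rfl⟩ := hx
      obtain ⟨q, hq, rfl⟩ := hy
      exact hzero p q (by simp only [Set.mem_setOf_eq] at hp hq; omega)
    | zero_left y _ => simp
    | zero_right x _ => simp
    | add_left x y z _ _ _ h1 h2 => simp [h1, h2]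
    | add_right x y z _ _ _ h1 h2 => simp [h1, h2]
    | smul_left c x y _ _ h1 => simp [h1]
    | smul_right c x y _ _ h1 => simp [h1]
  have hR0 : ∀ x ∈ L, R x = 0 := fun x hx => by
    induction hx using Submodule.span_induction with
    | mem x hx => obtain ⟨p, hp, rfl⟩ := hx; exact hR _ _ hp.1
    | zero => rw [← zero_smul F (0 : V), h.rsmul]; simp
    | add x y hx hy h1 h2 =>
      rw [h.radd, h1, h2, pow_zero_apply, pow_zero_apply, hort x hx y (Submodule.mem_sup_left hy)]; simp
    | smul c x _ h1 => rw [h.rsmul, h1, mul_zero]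
  have hperp : gens n m v ⊓ perp B L = L ⊔ Z := by
    refine le_antisymm (fun x hx => ?_) (sup_le (le_inf hLP fun x hx q hq => hort q hq x (Submodule.mem_sup_left hx))
      (le_inf (Submodule.span_mono (Set.image_subset_range _ _)) fun x hx q hq => hort q hq x (Submodule.mem_sup_right hx)))
    obtain ⟨c, hc⟩ := (Submodule.mem_span_range_iff_exists_fun F).1 hx.1
    have hlow := coeff_low h hz htop (b₀ := hi) (c := c) fun p hp => by
      rw [hc]; exact hx.2 _ (Submodule.subset_span ⟨p, ⟨hp, p.2.isLt⟩, rfl⟩)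
    rw [← hc]
    refine Submodule.sum_mem _ fun p _ => ?_
    by_cases hp : (p.2 : ℕ) + hi < m
    · rw [hlow p hp, zero_smul]; exact zero_mem _
    refine Submodule.smul_mem _ _ ?_
    rcases Nat.lt_or_ge (p.2 : ℕ) hi with h1 | h1
    · exact Submodule.mem_sup_right (Submodule.subset_span ⟨p, ⟨by omega, h1⟩, rfl⟩)
    · exact Submodule.mem_sup_left (Submodule.subset_span ⟨p, ⟨h1, p.2.isLt⟩, rfl⟩)
  have hdis : L ⊓ Z = ⊥ := by
    refine Disjoint.eq_bot ((linearIndependent_gen h hz htop).disjoint_span_image ?_)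
    exact Set.disjoint_left.2 fun p hp hq => by simp only [Set.mem_setOf_eq] at hp hq; omega
  exact ⟨Nat.card L, by exact_mod_cast Nat.card_pos, gauss_reduce h hLP hR0 hperp hdis⟩

/-- The sign of a piece. -/
def Word.sgn : Word → ℤ
  | .pair _ α => if α then -1 else 1
  | .cyc _ α => if α then -1 else 1

/-- The sign of a word. -/
def sgn : List Word → ℤ
  | [] => 1
  | p :: w => p.sgn * sgn w

/-- `pair` pieces of the second type have odd exponent. -/
def Word.Ok : Word → Prop
  | .pair m α => α = true → m % 2 = 1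
  | .cyc _ _ => True

theorem piece_sign (h : IsSys 0 n B R) {a : F} (ha : a ∉ (artin F).range) {p : Word} (hok : p.Ok) {P : Submodule F V}
    (hp : Piece 0 n B R a p P) : 0 < p.sgn * gauss R P := by
  rcases p with ⟨m, α⟩ | ⟨k, α⟩
  · obtain ⟨x, y, q, hd, hq, rfl⟩ := hp
    have hz : ∀ i, (n ^ m) (![x, y] i) = 0 := fun i => by fin_cases i <;> simp [q.kx, q.ky]
    have hR : ∀ i a, (m + 1) / 2 ≤ a → R ((n ^ a) (![x, y] i)) = 0 := fun i b hb => by
      rw [R_pow (s := 0) (n := n) (R := R), Nat.add_zero]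
      obtain ⟨e1, e2⟩ := q.high h b (by omega)
      fin_cases i <;> assumption
    obtain ⟨c, hc, heq⟩ := gauss_gens h (lo := m / 2) (hi := (m + 1) / 2) hz (fun c hc => by
      have h0 := hc 0
      have h1 := hc 1
      simp only [Fin.sum_univ_two, Matrix.cons_val_zero, Matrix.cons_val_one, q.selfx h, q.selfy h, q.one,
        q.one' h, mul_zero, mul_one, zero_add, add_zero] at h0 h1
      funext i
      fin_cases i
      exacts [h1, h0]) (by omega) (by omega) hR
    rw [heq]
    rcases Nat.even_or_odd m with ⟨k, hk⟩ | ⟨k, hk⟩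
    · have hα : α = false := by
        cases α
        · rfl
        · have := hok rfl
          omega
      have hZ : band n m ![x, y] (m / 2) ((m + 1) / 2) = ⊥ := Submodule.span_eq_bot.2 fun z hz' => by
        obtain ⟨p, hp, rfl⟩ := hz'
        simp only [Set.mem_setOf_eq] at hp
        omega
      rw [hZ, hα, gauss_zero (fun z hz' => by rw [(Submodule.mem_bot F).1 hz', ← zero_smul F (0 : V), h.rsmul]; simp)]
      simp [Word.sgn, hc]
    · have hZ : band n m ![x, y] (m / 2) ((m + 1) / 2) = Submodule.span F {(n ^ k) x, (n ^ k) y} := by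
        rw [band]
        congr 1
        ext z
        simp only [Set.mem_image, Set.mem_setOf_eq, Set.mem_insert_iff, Set.mem_singleton_iff]
        constructor
        · rintro ⟨⟨i, b⟩, hp, rfl⟩
          have hb : (b : ℕ) = k := by dsimp only at hp; omega
          fin_cases i
          · exact Or.inl (by simp [gen, hb])
          · exact Or.inr (by simp [gen, hb])
        · rintro (rfl | rfl)
          · exact ⟨(0, ⟨k, by omega⟩), by simp only; omega, by simp [gen]⟩
          · exact ⟨(1, ⟨k, by omega⟩), by simp only; omega, by simp [gen]⟩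
      have huw : B ((n ^ k) x) ((n ^ k) y) = 1 := by
        rw [q.val h (by omega) (Or.inl rfl) 1 q.one, if_pos (by omega)]
      obtain ⟨hp1, hp2⟩ := gauss_binary h huw
      obtain ⟨e1, e2⟩ := hq k (Nat.zero_le _)
      have hRx : R ((n ^ k) x) = if α = true ∧ 2 * k + 1 = m then 1 else 0 := by
        rw [R_pow (s := 0) (n := n) (R := R), Nat.add_zero]; exact e1
      have hRy : R ((n ^ k) y) = if α = true ∧ 2 * k + 1 = m then a else 0 := by
        rw [R_pow (s := 0) (n := n) (R := R), Nat.add_zero]; exact e2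
      rw [hZ]
      cases α with
      | false =>
        have := hp1 (by rw [hRx]; simp)
        simp only [Word.sgn, Bool.false_eq_true, if_false, one_mul]
        positivity
      | true =>
        have := hp2 (by rw [hRx, if_pos ⟨rfl, hk.symm⟩]) (by rw [hRy, if_pos ⟨rfl, hk.symm⟩]; exact ha)
        simp only [Word.sgn, if_true]
        nlinarith
  · obtain ⟨x, q, hq, rfl⟩ := hp
    have := q.pos
    have hR : ∀ (i : Fin 1) b, k + 1 ≤ b → R ((n ^ b) (![x] i)) = 0 := fun i b hb => by
      rw [R_pow (s := 0) (n := n) (R := R), Nat.add_zero]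
      fin_cases i
      exact q.high h (by omega)
    obtain ⟨c, hc, heq⟩ := gauss_gens h (m := 2 * k) (lo := k - 1) (hi := k + 1) (fun i => by fin_cases i; simp [q.killed])
      (fun c hc => by
        have h0 := hc 0
        simp only [Fin.sum_univ_one, Matrix.cons_val_zero, q.self h, mul_one] at h0
        funext i
        fin_cases i
        exact h0) (by omega) (by omega) hR
    rw [heq]
    have hZ : ∀ u w : V, ({u, w} : Set V) = {(n ^ (k - 1)) x, (n ^ k) x} →
        band n (2 * k) ![x] (k - 1) (k + 1) = Submodule.span F {u, w} := fun u w huw => by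
      rw [band, huw]
      congr 1
      ext z
      simp only [Set.mem_image, Set.mem_setOf_eq, Set.mem_insert_iff, Set.mem_singleton_iff]
      constructor
      · rintro ⟨⟨i, b⟩, hp, rfl⟩
        fin_cases i
        dsimp only at hp
        rcases Nat.lt_or_ge (b : ℕ) k with hb | hb
        · exact Or.inl (by simp [gen, show (b : ℕ) = k - 1 by omega])
        · exact Or.inr (by simp [gen, show (b : ℕ) = k by omega])
      · rintro (rfl | rfl)
        · exact ⟨(0, ⟨k - 1, by omega⟩), by simp only; omega, by simp [gen]⟩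
        · exact ⟨(0, ⟨k, by omega⟩), by simp only; omega, by simp [gen]⟩
    have hB : B ((n ^ k) x) ((n ^ (k - 1)) x) = 1 := by rw [q.val h (by omega), if_pos (by omega)]
    have e1 : R ((n ^ k) x) = 1 := by rw [R_pow (s := 0) (n := n) (R := R), Nat.add_zero, hq k (Nat.zero_le _), if_pos rfl]
    have e2 : R ((n ^ (k - 1)) x) = if α = true then a else 0 := by
      rw [R_pow (s := 0) (n := n) (R := R), Nat.add_zero, hq _ (Nat.zero_le _), if_neg (by omega)]
      exact if_congr ⟨fun e => e.1, fun e => ⟨e, by omega⟩⟩ rfl rfl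
    cases α with
    | false =>
      rw [hZ _ _ rfl]
      have := (gauss_binary h (u := (n ^ (k - 1)) x) (w := (n ^ k) x) (by rw [h.symm, hB])).1 (by rw [e2]; simp)
      simp only [Word.sgn, Bool.false_eq_true, if_false, one_mul]
      positivity
    | true =>
      rw [hZ ((n ^ k) x) ((n ^ (k - 1)) x) (Set.pair_comm _ _)]
      have := (gauss_binary h hB).2 e1 (by rw [e2, if_pos rfl]; exact ha)
      simp only [Word.sgn, if_true]
      nlinarith

/-- The Gauss sum has the sign of the word. -/
theorem sgn_gauss [FiniteDimensional F V] (h : IsSys 0 n B R) {a : F} (ha : a ∉ (artin F).range) :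
    ∀ (w : List Word) {U : Submodule F V}, (∀ p ∈ w, p.Ok) → Real 0 n B R a w U → 0 < sgn w * gauss R U
  | [], U, _, hw => by
    rw [Real] at hw
    subst hw
    rw [gauss_zero (fun z hz => by rw [(Submodule.mem_bot F).1 hz, ← zero_smul F (0 : V), h.rsmul]; simp)]
    simp [sgn, Nat.card_unique]
  | p :: w, U, hok, hw => by
    obtain ⟨P, hP, hle, hdec, hs, hr⟩ := hw
    have h1 := piece_sign h ha (hok p List.mem_cons_self) hP
    have h2 := sgn_gauss h ha w (fun q hq => hok q (List.mem_cons_of_mem _ hq)) hr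
    have hdis : P ⊓ (U ⊓ perp B P) = ⊥ := by
      rcases p with ⟨m, α⟩ | ⟨k, α⟩
      · obtain ⟨x, y, q, -, -, rfl⟩ := hP
        exact eq_bot_iff.2 fun z hz => (Submodule.mem_bot F).2 (gens_disjoint h
          (v := ![x, y]) (fun i => by fin_cases i <;> simp [q.kx, q.ky])
          (fun c hc => by
            have h0 := hc 0
            have h1 := hc 1
            simp only [Fin.sum_univ_two, Matrix.cons_val_zero, Matrix.cons_val_one, q.selfx h, q.selfy h, q.one,
              q.one' h, mul_zero, mul_one, zero_add, add_zero] at h0 h1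
            funext i
            fin_cases i
            exacts [h1, h0]) hz.1 hz.2.2)
      · obtain ⟨x, q, -, rfl⟩ := hP
        exact eq_bot_iff.2 fun z hz => (Submodule.mem_bot F).2 (gens_disjoint h
          (v := ![x]) (fun i => by fin_cases i; simp [q.killed])
          (fun c hc => by
            have h0 := hc 0
            simp only [Fin.sum_univ_one, Matrix.cons_val_zero, q.self h, mul_one] at h0
            funext i
            fin_cases i
            exact h0) hz.1 hz.2.2)
    rw [← le_antisymm (sup_le hle inf_le_left) hdec, gauss_sup h inf_le_right hdis, sgn]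
    have h3 := mul_pos h1 h2
    linarith [show p.sgn * gauss R P * (sgn w * gauss R (U ⊓ perp B P)) =
      p.sgn * sgn w * (gauss R P * gauss R (U ⊓ perp B P)) by ring]

/-- An equivalence preserves the Gauss sum. -/
theorem gauss_eqv {V' : Type w} [AddCommGroup V'] [Module F V'] [Finite V'] {n' : Module.End F V'}
    {B' : LinearMap.BilinForm F V'} {R' : V' → F} (he : Eqv n B R n' B' R') :
    gauss R' (⊤ : Submodule F V') = gauss R (⊤ : Submodule F V) := by
  classical
  haveI := Fintype.ofFinite V
  haveI := Fintype.ofFinite V'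
  obtain ⟨θ, -, -, hR⟩ := he
  rw [gauss_eq, gauss_eq]
  refine (Fintype.sum_bijective (fun x : (⊤ : Submodule F V) => (⟨θ x.1, trivial⟩ : (⊤ : Submodule F V')))
    ⟨fun x y hxy => Subtype.ext (θ.injective (congrArg Subtype.val hxy)),
      fun y => ⟨⟨θ.symm y.1, trivial⟩, Subtype.ext (θ.apply_symm_apply _)⟩⟩ _ _ fun x => ?_).symm
  rw [hR]

end Cfsg.Lib.Linear.UniTwo
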