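import Cfsg.Agent.Lib.Linear.UniTwo.Numeric
import Cfsg.Agent.Lib.Linear.UniTwo.Sign

/-!
# Words for quadratic forms: the sign and the weighted counts

For `s = 0` the words of positive sign dominate those of negative sign in every profile, and their weighted
number is at most `15`.
-/

set_option autoImplicit false

namespace Cfsg.Lib.Linear.UniTwo

/-- Positive words. -/
def isPos (w : List Word) : Bool := decide (sgn w = 1)

theorem sgn_eq (w : List Word) : sgn w = 1 ∨ sgn w = -1 := by
  induction w with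
  | nil => exact Or.inl rfl
  | cons p w ih =>
    have hp : p.sgn = 1 ∨ p.sgn = -1 := by
      rcases p with ⟨m, α⟩ | ⟨k, α⟩ <;> cases α <;> simp [Word.sgn]
    rcases hp with hp | hp <;> rcases ih with h | h <;> simp [sgn, hp, h]

theorem isPos_flip {p : Word} (hp : p.sgn = -1) (w : List Word) : isPos (p :: w) = !isPos w := by
  rcases sgn_eq w with h | h <;> simp [isPos, sgn, hp, h]

theorem isPos_keep {p : Word} (hp : p.sgn = 1) (w : List Word) : isPos (p :: w) = isPos w := by
  simp [isPos, sgn, hp]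

theorem countP_pre_keep {p : Word} (hp : p.sgn = 1) (L : List (List Word)) :
    (pre p L).countP isPos = L.countP isPos := by
  rw [pre, List.countP_map]
  exact List.countP_congr fun w _ => by simp [isPos_keep hp]

theorem countP_pre_both {p p' : Word} (hp : p.sgn = 1) (hp' : p'.sgn = -1) (L : List (List Word)) :
    (pre p L).countP isPos + (pre p' L).countP isPos = L.length := by
  simp only [pre, List.countP_map, Function.comp_def, isPos_keep hp, isPos_flip hp']
  induction L with
  | nil => rfl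
  | cons w L ih =>
    simp only [List.countP_cons, List.length_cons]
    cases isPos w <;> simp <;> omega

/-- The number of words. -/
def tc (m h : ℕ) (o : Bool) : ℕ := (words 0 m h o).length

/-- The number of positive words. -/
def pc (m h : ℕ) (o : Bool) : ℕ := (words 0 m h o).countP isPos

theorem words_odd (k h : ℕ) (o : Bool) : words 0 (2 * k + 1) h o =
    if o then words 0 (2 * k) h true ++
      (if 2 * k + 1 ≤ h then pre (.pair (2 * k + 1) false) (words 0 (2 * k + 1) (h - (2 * k + 1)) o) else []) ++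
      (if 2 * k + 1 ≤ h then pre (.pair (2 * k + 1) false) (words 0 (2 * k) (h - (2 * k + 1)) false) ++
        pre (.pair (2 * k + 1) true) (words 0 (2 * k) (h - (2 * k + 1)) false) else [])
    else words 0 (2 * k) h false := by
  conv_lhs => rw [words]
  simp only [show (2 * k + 1) % 2 = 1 by omega, show (2 * k + 1) / 2 = k by omega, if_true, dite_eq_ite,
    Nat.not_lt_zero, if_false]

theorem words_even (k h : ℕ) (hk : 1 ≤ k) (o : Bool) : words 0 (2 * k) h o =
    if o then (if 2 * k ≤ h then pre (.pair (2 * k) false) (words 0 (2 * k) (h - 2 * k) o) else []) ++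
      (if k ≤ h then pre (.cyc k false) (words 0 (2 * k - 1) (h - k) true) ++
        (pre (.cyc k false) (words 0 (2 * k - 1) (h - k) false) ++ pre (.cyc k true) (words 0 (2 * k - 1) (h - k) false))
      else []) ++
      (if 2 * k ≤ h then pre (.cyc k false) (pre (.cyc k false) (words 0 (2 * k - 1) (h - 2 * k) true) ++
        (pre (.cyc k false) (words 0 (2 * k - 1) (h - 2 * k) false) ++
          pre (.cyc k true) (words 0 (2 * k - 1) (h - 2 * k) false))) else [])
    else words 0 (2 * k - 1) h false ++ words 0 (2 * k - 1) h true ++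
      (if 2 * k ≤ h then pre (.pair (2 * k) false) (words 0 (2 * k) (h - 2 * k) o) else []) := by
  obtain ⟨j, rfl⟩ : ∃ j, k = j + 1 := ⟨k - 1, by omega⟩
  conv_lhs => rw [show 2 * (j + 1) = (2 * j + 1) + 1 by omega, words]
  simp only [show (2 * j + 1 + 1) % 2 = 0 by omega, show (2 * j + 1 + 1) / 2 = j + 1 by omega,
    show 2 * (j + 1) - 1 = 2 * j + 1 by omega, zero_ne_one, if_false, dite_eq_ite, oneCyc,
    show 0 < j + 1 from Nat.succ_pos j, if_true, List.append_assoc]
  rfl

/-- Negative words are dominated by positive ones in every class of profiles. -/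
def Dom (L : List (List Word)) : Prop :=
  ∀ q : List Word → Bool, (∀ w w', profileEq w w' → q w = q w') →
    (L.countP fun w => !isPos w && q w) ≤ L.countP fun w => isPos w && q w
where
  /-- Equal pieces up to their type. -/
  profileEq (w w' : List Word) : Prop := w.map shape = w'.map shape
  /-- A piece without its type. -/
  shape : Word → ℕ ⊕ ℕ
    | .pair m _ => Sum.inl m
    | .cyc k _ => Sum.inr k

theorem dom_nil : Dom [] := fun _ _ => le_rfl

theorem dom_append {L L' : List (List Word)} (h : Dom L) (h' : Dom L') : Dom (L ++ L') := fun q hq => by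
  simp only [List.countP_append]
  exact Nat.add_le_add (h q hq) (h' q hq)

theorem dom_pre {p : Word} (hp : p.sgn = 1) {L : List (List Word)} (h : Dom L) : Dom (pre p L) := fun q hq => by
  simp only [pre, List.countP_map, Function.comp_def, isPos_keep hp]
  exact h (fun w => q (p :: w)) fun w w' e => hq _ _ (by
    simp only [Dom.profileEq, List.map_cons] at e ⊢
    rw [e])

theorem dom_both {p p' : Word} (hp : p.sgn = 1) (hp' : p'.sgn = -1) (hs : Dom.shape p = Dom.shape p')
    (L : List (List Word)) : Dom (pre p L ++ pre p' L) := fun q hq => by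
  have hqq : ∀ w, q (p' :: w) = q (p :: w) := fun w => hq _ _ (by simp [Dom.profileEq, hs])
  simp only [pre, List.countP_append, List.countP_map, Function.comp_def, isPos_keep hp, isPos_flip hp', hqq,
    Bool.not_not]
  omega

theorem dom_words : ∀ (m h : ℕ) (o : Bool), Dom (words 0 m h o) ∧ ∀ w ∈ words 0 m h o, ∀ p ∈ w, p.Ok := by
  intro m
  induction m with
  | zero =>
    intro h o
    rw [words]
    split_ifs
    · exact ⟨fun q _ => by simp [isPos, sgn], fun w hw p hp => by
        obtain rfl := List.mem_singleton.1 hw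
        simp at hp⟩
    · exact ⟨dom_nil, fun w hw => by simp at hw⟩
  | succ m ih =>
    intro h
    induction h using Nat.strong_induction_on with
    | _ h ihh =>
      intro o
      have hpre : ∀ {p : Word} {L : List (List Word)}, p.Ok → (∀ w ∈ L, ∀ q ∈ w, q.Ok) → ∀ w ∈ pre p L, ∀ q ∈ w, q.Ok :=
        fun {p L} hp hL w hw q hq => by
        obtain ⟨v, hv, rfl⟩ := List.mem_map.1 hw
        rcases List.mem_cons.1 hq with rfl | hq'
        exacts [hp, hL v hv q hq']
      have happ : ∀ {L L' : List (List Word)}, Dom L ∧ (∀ w ∈ L, ∀ q ∈ w, q.Ok) →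
          Dom L' ∧ (∀ w ∈ L', ∀ q ∈ w, q.Ok) → Dom (L ++ L') ∧ ∀ w ∈ L ++ L', ∀ q ∈ w, q.Ok :=
        fun {L L'} a b => ⟨dom_append a.1 b.1, fun w hw => (List.mem_append.1 hw).elim (a.2 w) (b.2 w)⟩
      have hite : ∀ {c : Prop} [Decidable c] {L : List (List Word)}, (c → Dom L ∧ ∀ w ∈ L, ∀ q ∈ w, q.Ok) →
          Dom (if c then L else []) ∧ ∀ w ∈ (if c then L else []), ∀ q ∈ w, q.Ok := fun {c _ L} hL => by
        split_ifs with hc
        exacts [hL hc, ⟨dom_nil, fun w hw => by simp at hw⟩]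
      rcases Nat.even_or_odd (m + 1) with ⟨k, hk⟩ | ⟨k, hk⟩
      · obtain rfl : m = 2 * k - 1 := by omega
        have hk1 : 1 ≤ k := by omega
        rw [show 2 * k - 1 + 1 = 2 * k by omega] at *
        rw [words_even k h hk1]
        have hrec : ∀ o, Dom (if 2 * k ≤ h then pre (.pair (2 * k) false) (words 0 (2 * k) (h - 2 * k) o) else []) ∧
            ∀ w ∈ (if 2 * k ≤ h then pre (.pair (2 * k) false) (words 0 (2 * k) (h - 2 * k) o) else []), ∀ q ∈ w, q.Ok :=
          fun o => hite fun hle => ⟨dom_pre rfl (ihh _ (by omega) o).1, hpre (fun e => by simp at e) (ihh _ (by omega) o).2⟩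
        have hone : ∀ j, Dom (pre (.cyc k false) (words 0 (2 * k - 1) j true) ++
            (pre (.cyc k false) (words 0 (2 * k - 1) j false) ++ pre (.cyc k true) (words 0 (2 * k - 1) j false))) ∧
            ∀ w ∈ (pre (.cyc k false) (words 0 (2 * k - 1) j true) ++
            (pre (.cyc k false) (words 0 (2 * k - 1) j false) ++ pre (.cyc k true) (words 0 (2 * k - 1) j false))),
              ∀ q ∈ w, q.Ok := fun j => happ ⟨dom_pre rfl (ih j true).1, hpre (p := Word.cyc k false) trivial (ih j true).2⟩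
          ⟨dom_both (p := Word.cyc k false) (p' := Word.cyc k true) rfl rfl rfl _, fun w hw =>
            (List.mem_append.1 hw).elim (hpre (p := Word.cyc k false) trivial (ih j false).2 w)
              (hpre (p := Word.cyc k true) trivial (ih j false).2 w)⟩
        cases o <;> simp only [Bool.false_eq_true, if_false, if_true]
        swap
        · exact happ (happ (hrec _) (hite fun _ => hone _))
            (hite fun _ => ⟨dom_pre rfl (hone _).1, hpre (p := Word.cyc k false) trivial (hone _).2⟩)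
        · exact happ (happ (ih h false) (ih h true)) (hrec _)
      · obtain rfl : m = 2 * k := by omega
        rw [words_odd]
        have hrec : ∀ o, Dom (if 2 * k + 1 ≤ h then pre (.pair (2 * k + 1) false) (words 0 (2 * k + 1) (h - (2 * k + 1)) o) else []) ∧
            ∀ w ∈ (if 2 * k + 1 ≤ h then pre (.pair (2 * k + 1) false) (words 0 (2 * k + 1) (h - (2 * k + 1)) o) else []),
              ∀ q ∈ w, q.Ok :=
          fun o => hite fun hle => ⟨dom_pre rfl (ihh _ (by omega) o).1, hpre (fun e => by simp at e) (ihh _ (by omega) o).2⟩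
        cases o <;> simp only [Bool.false_eq_true, if_false, if_true]
        swap
        · exact happ (happ (ih h true) (hrec _)) (hite fun _ =>
            ⟨dom_both (p := Word.pair (2 * k + 1) false) (p' := Word.pair (2 * k + 1) true) rfl rfl rfl _, fun w hw =>
            (List.mem_append.1 hw).elim
              (hpre (p := Word.pair (2 * k + 1) false) (fun e => by simp at e) (ih _ false).2 w)
              (hpre (p := Word.pair (2 * k + 1) true) (fun _ => show (2 * k + 1) % 2 = 1 by omega) (ih _ false).2 w)⟩)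
        · exact ih h false

/-- The weighted sum of a count. -/
def fsum (f : ℕ → ℕ) (H : ℕ) : ℚ := ∑ h ∈ Finset.range H, (f h : ℚ) / 2 ^ h

theorem fsum_mono {f : ℕ → ℕ} {H K : ℕ} (h : H ≤ K) : fsum f H ≤ fsum f K :=
  Finset.sum_le_sum_of_subset_of_nonneg (Finset.range_mono h) fun _ _ _ => by positivity

theorem fsum_add (f g : ℕ → ℕ) (H : ℕ) : fsum (fun h => f h + g h) H = fsum f H + fsum g H := by
  simp only [fsum, Nat.cast_add, add_div, Finset.sum_add_distrib]

theorem fsum_shift (f : ℕ → ℕ) {a H : ℕ} {b : ℚ} (hb : fsum f (H - a) ≤ b) :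
    fsum (fun h => if a ≤ h then f (h - a) else 0) H ≤ 1 / 2 ^ a * b := shift_sum f hb

theorem fsum_geo {f : ℕ → ℕ} {m : ℕ} (hm : 1 ≤ m) {b : ℚ} (H : ℕ)
    (h : ∀ K, fsum f K ≤ b + 1 / 2 ^ m * fsum f (K - m)) : fsum f H ≤ b / (1 - 1 / 2 ^ m) := by
  have h1 : (1 : ℚ) / 2 ^ m < 1 := by
    rw [div_lt_one (by positivity)]; exact one_lt_pow₀ (by norm_num) (by omega)
  rw [le_div_iff₀ (by linarith)]
  have h2 := h H
  have h3 := mul_le_mul_of_nonneg_left (fsum_mono (f := f) (Nat.sub_le H m)) (show (0 : ℚ) ≤ 1 / 2 ^ m by positivity)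
  nlinarith

theorem tc_odd (k h : ℕ) (o : Bool) : tc (2 * k + 1) h o =
    if o then tc (2 * k) h true + (if 2 * k + 1 ≤ h then tc (2 * k + 1) (h - (2 * k + 1)) o else 0) +
      (if 2 * k + 1 ≤ h then tc (2 * k) (h - (2 * k + 1)) false + tc (2 * k) (h - (2 * k + 1)) false else 0)
    else tc (2 * k) h false := by
  rw [tc, words_odd]
  split_ifs <;> simp [tc, length_pre, List.length_append] <;> omega

theorem pc_odd (k h : ℕ) (o : Bool) : pc (2 * k + 1) h o =
    if o then pc (2 * k) h true + (if 2 * k + 1 ≤ h then pc (2 * k + 1) (h - (2 * k + 1)) o else 0) +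
      (if 2 * k + 1 ≤ h then tc (2 * k) (h - (2 * k + 1)) false else 0)
    else pc (2 * k) h false := by
  rw [pc, words_odd]
  split_ifs <;> simp [pc, tc, List.countP_append, countP_pre_keep (p := Word.pair (2 * k + 1) false) rfl,
    ← countP_pre_both (p := Word.pair (2 * k + 1) false) (p' := Word.pair (2 * k + 1) true) rfl rfl] <;> omega

theorem tc_even (k h : ℕ) (hk : 1 ≤ k) (o : Bool) : tc (2 * k) h o =
    if o then (if 2 * k ≤ h then tc (2 * k) (h - 2 * k) o else 0) +
      (if k ≤ h then tc (2 * k - 1) (h - k) true + (tc (2 * k - 1) (h - k) false + tc (2 * k - 1) (h - k) false) else 0) +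
      (if 2 * k ≤ h then tc (2 * k - 1) (h - 2 * k) true +
        (tc (2 * k - 1) (h - 2 * k) false + tc (2 * k - 1) (h - 2 * k) false) else 0)
    else tc (2 * k - 1) h false + tc (2 * k - 1) h true + (if 2 * k ≤ h then tc (2 * k) (h - 2 * k) o else 0) := by
  rw [tc, words_even k h hk]
  split_ifs <;> simp [tc, length_pre, List.length_append] <;> omega

theorem pc_even (k h : ℕ) (hk : 1 ≤ k) (o : Bool) : pc (2 * k) h o =
    if o then (if 2 * k ≤ h then pc (2 * k) (h - 2 * k) o else 0) +
      (if k ≤ h then pc (2 * k - 1) (h - k) true + tc (2 * k - 1) (h - k) false else 0) +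
      (if 2 * k ≤ h then pc (2 * k - 1) (h - 2 * k) true + tc (2 * k - 1) (h - 2 * k) false else 0)
    else pc (2 * k - 1) h false + pc (2 * k - 1) h true + (if 2 * k ≤ h then pc (2 * k) (h - 2 * k) o else 0) := by
  rw [pc, words_even k h hk]
  split_ifs <;> simp [pc, tc, List.countP_append, countP_pre_keep (p := Word.pair (2 * k) false) rfl,
    countP_pre_keep (p := Word.cyc k false) rfl,
    ← countP_pre_both (p := Word.cyc k false) (p' := Word.cyc k true) rfl rfl] <;> omega

/-- One step of the bounds on the totals and on the positive words. -/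
def stepO (m : ℕ) (T : (ℚ × ℚ) × ℚ × ℚ) : (ℚ × ℚ) × ℚ × ℚ :=
  if m % 2 = 1 then
    ((T.1.1, (T.1.2 + 2 * (1 / 2 ^ m) * T.1.1) / (1 - 1 / 2 ^ m)),
      (T.2.1, (T.2.2 + 1 / 2 ^ m * T.1.1) / (1 - 1 / 2 ^ m)))
  else
    (((T.1.1 + T.1.2) / (1 - 1 / 2 ^ m),
      (1 / 2 ^ (m / 2) + 1 / 2 ^ m) * (T.1.2 + 2 * T.1.1) / (1 - 1 / 2 ^ m)),
      ((T.2.1 + T.2.2) / (1 - 1 / 2 ^ m),
      (1 / 2 ^ (m / 2) + 1 / 2 ^ m) * (T.2.2 + T.1.1) / (1 - 1 / 2 ^ m)))

/-- The bounds. -/
def bndO : ℕ → (ℚ × ℚ) × ℚ × ℚ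
  | 0 => ((1, 0), (1, 0))
  | m + 1 => stepO (m + 1) (bndO m)

theorem fsum_bndO : ∀ (m H : ℕ), (fsum (fun h => tc m h false) H ≤ (bndO m).1.1 ∧ fsum (fun h => tc m h true) H ≤ (bndO m).1.2) ∧
    fsum (fun h => pc m h false) H ≤ (bndO m).2.1 ∧ fsum (fun h => pc m h true) H ≤ (bndO m).2.2 := by
  intro m
  induction m with
  | zero =>
    intro H
    have h1 : ∀ f : ℕ → ℕ, (∀ h, f h ≤ if h = 0 then 1 else 0) → fsum f H ≤ 1 := fun f hf => by
      refine le_trans (Finset.sum_le_sum (g := fun h => if h = 0 then (1 : ℚ) else 0) fun h _ => ?_) ?_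
      · have := hf h
        rcases eq_or_ne h 0 with rfl | hh
        · simp only [if_pos] at this ⊢
          rw [pow_zero, div_one]
          exact_mod_cast this
        · rw [if_neg hh] at this ⊢
          simp [Nat.le_zero.1 this]
      · rw [Finset.sum_ite_eq' (Finset.range H) 0]; split_ifs <;> norm_num
    refine ⟨⟨h1 _ fun h => ?_, le_of_eq (Finset.sum_eq_zero fun h _ => ?_)⟩, h1 _ fun h => ?_,
      le_of_eq (Finset.sum_eq_zero fun h _ => ?_)⟩
    · rw [tc, words]; split_ifs <;> simp_all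
    · simp [tc, words]
    · rw [pc, words]; split_ifs <;> simp_all [isPos, sgn]
    · simp [pc, words]
  | succ m ih =>
    intro H
    rcases Nat.even_or_odd (m + 1) with ⟨k, hk⟩ | ⟨k, hk⟩
    · obtain rfl : m = 2 * k - 1 := by omega
      have hk1 : 1 ≤ k := by omega
      rw [show 2 * k - 1 + 1 = 2 * k by omega, show bndO (2 * k) = stepO (2 * k) (bndO (2 * k - 1)) by
        conv_lhs => rw [show 2 * k = (2 * k - 1) + 1 by omega, bndO, show 2 * k - 1 + 1 = 2 * k by omega]]
      rw [stepO, if_neg (by omega), show 2 * k / 2 = k by omega]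
      refine ⟨⟨fsum_geo (by omega) H fun K => ?_, fsum_geo (by omega) H fun K => ?_⟩,
        fsum_geo (by omega) H fun K => ?_, fsum_geo (by omega) H fun K => ?_⟩
      · conv_lhs => enter [1, h]; rw [tc_even k h hk1]
        simp only [Bool.false_eq_true, if_false, fsum_add]
        exact add_le_add (add_le_add (ih K).1.1 (ih K).1.2) (fsum_shift (fun h => tc (2 * k) h false) le_rfl)
      · conv_lhs => enter [1, h]; rw [tc_even k h hk1]
        simp only [if_true, fsum_add]
        have hc : ∀ H, fsum (fun h => tc (2 * k - 1) h true + (tc (2 * k - 1) h false + tc (2 * k - 1) h false)) H ≤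
            (bndO (2 * k - 1)).1.2 + 2 * (bndO (2 * k - 1)).1.1 := fun H => by
          simp only [fsum_add]
          linarith [(ih H).1.1, (ih H).1.2]
        have e1 := fsum_shift (H := K) (fun h => tc (2 * k - 1) h true + (tc (2 * k - 1) h false + tc (2 * k - 1) h false))
          (hc (K - k))
        have e2 := fsum_shift (H := K) (fun h => tc (2 * k - 1) h true + (tc (2 * k - 1) h false + tc (2 * k - 1) h false))
          (hc (K - 2 * k))
        have e3 := fsum_shift (H := K) (a := 2 * k) (fun h => tc (2 * k) h true) le_rfl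
        rw [add_mul]
        linarith
      · conv_lhs => enter [1, h]; rw [pc_even k h hk1]
        simp only [Bool.false_eq_true, if_false, fsum_add]
        exact add_le_add (add_le_add (ih K).2.1 (ih K).2.2) (fsum_shift (fun h => pc (2 * k) h false) le_rfl)
      · conv_lhs => enter [1, h]; rw [pc_even k h hk1]
        simp only [if_true, fsum_add]
        have hc : ∀ H, fsum (fun h => pc (2 * k - 1) h true + tc (2 * k - 1) h false) H ≤
            (bndO (2 * k - 1)).2.2 + (bndO (2 * k - 1)).1.1 := fun H => by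
          simp only [fsum_add]
          linarith [(ih H).1.1, (ih H).2.2]
        have e1 := fsum_shift (H := K) (fun h => pc (2 * k - 1) h true + tc (2 * k - 1) h false) (hc (K - k))
        have e2 := fsum_shift (H := K) (fun h => pc (2 * k - 1) h true + tc (2 * k - 1) h false) (hc (K - 2 * k))
        have e3 := fsum_shift (H := K) (a := 2 * k) (fun h => pc (2 * k) h true) le_rfl
        rw [add_mul]
        linarith
    · obtain rfl : m = 2 * k := by omega
      rw [show bndO (2 * k + 1) = stepO (2 * k + 1) (bndO (2 * k)) from rfl, stepO, if_pos (by omega)]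
      refine ⟨⟨?_, fsum_geo (by omega) H fun K => ?_⟩, ?_, fsum_geo (by omega) H fun K => ?_⟩
      · conv_lhs => enter [1, h]; rw [tc_odd]
        exact (ih H).1.1
      · conv_lhs => enter [1, h]; rw [tc_odd]
        simp only [if_true, fsum_add]
        have hc : ∀ H, fsum (fun h => tc (2 * k) h false + tc (2 * k) h false) H ≤ 2 * (bndO (2 * k)).1.1 := fun H => by
          rw [fsum_add]; linarith [(ih H).1.1]
        have e1 := fsum_shift (H := K) (fun h => tc (2 * k) h false + tc (2 * k) h false) (hc (K - (2 * k + 1)))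
        have e3 := fsum_shift (H := K) (a := 2 * k + 1) (fun h => tc (2 * k + 1) h true) le_rfl
        linarith [(ih K).1.2]
      · conv_lhs => enter [1, h]; rw [pc_odd]
        exact (ih H).2.1
      · conv_lhs => enter [1, h]; rw [pc_odd]
        simp only [if_true, fsum_add]
        have e1 := fsum_shift (H := K) (fun h => tc (2 * k) h false) (ih (K - (2 * k + 1))).1.1
        have e3 := fsum_shift (H := K) (a := 2 * k + 1) (fun h => pc (2 * k + 1) h true) le_rfl
        linarith [(ih K).2.2]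

theorem bndO_small : ∀ m ≤ 40, (bndO m).2.1 + (bndO m).2.2 ≤ 15 := by decide +kernel

theorem bndO_base : ((bndO 40).1.1 + (bndO 40).1.2) * (1 + 7 * (1 / 2) ^ 20) ≤ 26 ∧
    (bndO 40).2.1 + (bndO 40).2.2 + 200 * (1 / 2) ^ 20 ≤ 15 := by decide +kernel

theorem bndO_nonneg (m : ℕ) : (0 ≤ (bndO m).1.1 ∧ 0 ≤ (bndO m).1.2) ∧ 0 ≤ (bndO m).2.1 ∧ 0 ≤ (bndO m).2.2 := by
  have h := fsum_bndO m 0
  have h0 : ∀ f, fsum f 0 = 0 := fun f => Finset.sum_range_zero _
  simp only [h0] at h
  exact h

theorem bndO_step {k : ℕ} (hk : 20 ≤ k) {u : ℚ} (hu : u = (1 / 2) ^ k) (hu0 : 0 < u) (hu1 : u ≤ 1 / 1024) :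
    let T := fun m => (bndO m).1.1 + (bndO m).1.2
    let P := fun m => (bndO m).2.1 + (bndO m).2.2
    T (2 * k + 1) ≤ T (2 * k) * (1 + u / 10) ∧ P (2 * k + 1) ≤ P (2 * k) * (1 + u / 10) + T (2 * k) * (u / 10) ∧
      T (2 * k + 2) ≤ T (2 * k + 1) * (1 + 11 / 10 * u) ∧
      P (2 * k + 2) ≤ P (2 * k + 1) * (1 + 11 / 10 * u) + T (2 * k + 1) * (11 / 10 * u) := by
  intro T P
  have hu2 : u ^ 2 ≤ u / 1024 := by nlinarith
  have hpos : 0 < u ^ 2 := by positivity
  have e1 : (1 : ℚ) / 2 ^ (2 * k + 1) = u ^ 2 / 2 := by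
    rw [hu, ← pow_mul, div_pow, one_pow, pow_succ, mul_comm k 2, div_div]
  have e2 : (1 : ℚ) / 2 ^ (2 * k + 2) = u ^ 2 / 4 := by
    rw [hu, ← pow_mul, div_pow, one_pow, pow_add, mul_comm k 2, div_div]; norm_num
  have e3 : (1 : ℚ) / 2 ^ (k + 1) = u / 2 := by
    rw [hu, div_pow, one_pow, pow_succ, div_div]
  obtain ⟨⟨a0, b0⟩, c0, d0⟩ := bndO_nonneg (2 * k)
  obtain ⟨⟨a1, b1⟩, c1, d1⟩ := bndO_nonneg (2 * k + 1)
  have hd1 : (0 : ℚ) < 1 - u ^ 2 / 2 := by linarith
  have hd2 : (0 : ℚ) < 1 - u ^ 2 / 4 := by linarith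
  have f1 : bndO (2 * k + 1) = stepO (2 * k + 1) (bndO (2 * k)) := rfl
  have f2 : bndO (2 * k + 2) = stepO (2 * k + 2) (bndO (2 * k + 1)) := rfl
  rw [stepO, if_pos (by omega), e1] at f1
  rw [stepO, if_neg (by omega), show (2 * k + 2) / 2 = k + 1 by omega, e2, e3] at f2
  simp only [T, P]
  refine ⟨?_, ?_, ?_, ?_⟩
  · rw [f1]; simp only []
    rw [add_div' _ _ _ hd1.ne', div_le_iff₀ hd1]
    nlinarith [mul_nonneg a0 hu0.le, mul_nonneg b0 hu0.le, mul_le_mul_of_nonneg_left hu2 a0, mul_le_mul_of_nonneg_left hu2 b0,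
      mul_nonneg (mul_nonneg a0 hu0.le) hu0.le, mul_nonneg (mul_nonneg b0 hu0.le) hu0.le]
  · rw [f1]; simp only []
    rw [add_div' _ _ _ hd1.ne', div_le_iff₀ hd1]
    nlinarith [mul_nonneg a0 hu0.le, mul_nonneg b0 hu0.le, mul_nonneg c0 hu0.le, mul_nonneg d0 hu0.le,
      mul_le_mul_of_nonneg_left hu2 a0, mul_le_mul_of_nonneg_left hu2 b0, mul_le_mul_of_nonneg_left hu2 c0,
      mul_le_mul_of_nonneg_left hu2 d0]
  · rw [f2]; simp only []
    rw [← add_div, div_le_iff₀ hd2]
    nlinarith [mul_nonneg a1 hu0.le, mul_nonneg b1 hu0.le, mul_le_mul_of_nonneg_left hu2 a1,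
      mul_le_mul_of_nonneg_left hu2 b1]
  · rw [f2]; simp only []
    rw [← add_div, div_le_iff₀ hd2]
    nlinarith [mul_nonneg a1 hu0.le, mul_nonneg b1 hu0.le, mul_nonneg c1 hu0.le, mul_nonneg d1 hu0.le,
      mul_le_mul_of_nonneg_left hu2 a1, mul_le_mul_of_nonneg_left hu2 b1, mul_le_mul_of_nonneg_left hu2 c1,
      mul_le_mul_of_nonneg_left hu2 d1]

theorem bndO_le : ∀ m, (bndO m).2.1 + (bndO m).2.2 ≤ 15 := by
  have key : ∀ k, 20 ≤ k → ((bndO (2 * k)).1.1 + (bndO (2 * k)).1.2) * (1 + 7 * (1 / 2) ^ k) ≤ 26 ∧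
      (bndO (2 * k)).2.1 + (bndO (2 * k)).2.2 + 200 * (1 / 2) ^ k ≤ 15 := by
    intro k hk
    induction k, hk using Nat.le_induction with
    | base => exact bndO_base
    | succ k hk ih =>
      have hu0 : (0 : ℚ) < (1 / 2) ^ k := by positivity
      have hu1 : ((1 : ℚ) / 2) ^ k ≤ 1 / 1024 :=
        (pow_le_pow_of_le_one (by norm_num) (by norm_num) (show 10 ≤ k by omega)).trans_eq (by norm_num)
      obtain ⟨s1, s2, s3, s4⟩ := bndO_step hk rfl hu0 hu1
      simp only [] at s1 s2 s3 s4
      obtain ⟨⟨a0, b0⟩, c0, d0⟩ := bndO_nonneg (2 * k)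
      obtain ⟨⟨a1, b1⟩, c1, d1⟩ := bndO_nonneg (2 * k + 1)
      obtain ⟨⟨a2, b2⟩, c2, d2⟩ := bndO_nonneg (2 * k + 2)
      rw [show 2 * (k + 1) = 2 * k + 2 by ring, pow_succ]
      generalize ((1 : ℚ) / 2) ^ k = u at *
      generalize hT0 : (bndO (2 * k)).1.1 + (bndO (2 * k)).1.2 = T0 at *
      generalize hT1 : (bndO (2 * k + 1)).1.1 + (bndO (2 * k + 1)).1.2 = T1 at *
      generalize hT2 : (bndO (2 * k + 2)).1.1 + (bndO (2 * k + 2)).1.2 = T2 at *
      generalize hP0 : (bndO (2 * k)).2.1 + (bndO (2 * k)).2.2 = P0 at *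
      generalize hP1 : (bndO (2 * k + 1)).2.1 + (bndO (2 * k + 1)).2.2 = P1 at *
      generalize hP2 : (bndO (2 * k + 2)).2.1 + (bndO (2 * k + 2)).2.2 = P2 at *
      have hT0' : 0 ≤ T0 := by linarith
      have hT0le : T0 ≤ 26 := le_trans (le_mul_of_one_le_right hT0' (by linarith)) ih.1
      have hA : (1 + u / 10) * (1 + 11 / 10 * u) * (1 + 7 * (u * (1 / 2))) ≤ 1 + 7 * u := by
        nlinarith [mul_le_mul_of_nonneg_left hu1 (sq_nonneg u)]
      have hT2le : T2 ≤ T0 * ((1 + u / 10) * (1 + 11 / 10 * u)) :=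
        (s3.trans (mul_le_mul_of_nonneg_right s1 (by positivity))).trans_eq (by ring)
      refine ⟨?_, ?_⟩
      · calc T2 * (1 + 7 * (u * (1 / 2))) ≤ T0 * ((1 + u / 10) * (1 + 11 / 10 * u)) * (1 + 7 * (u * (1 / 2))) :=
              mul_le_mul_of_nonneg_right hT2le (by positivity)
          _ = T0 * ((1 + u / 10) * (1 + 11 / 10 * u) * (1 + 7 * (u * (1 / 2)))) := by ring
          _ ≤ T0 * (1 + 7 * u) := mul_le_mul_of_nonneg_left hA hT0'
          _ ≤ 26 := ih.1
      · have hT1le : T1 ≤ 27 := s1.trans (by nlinarith)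
        have hP1le : P1 ≤ 15 + 5 * u := s2.trans (by nlinarith)
        nlinarith
  intro m
  rcases Nat.lt_or_ge m 40 with hm | hm
  · exact bndO_small m hm.le
  rcases Nat.even_or_odd m with ⟨k, hk⟩ | ⟨k, hk⟩
  · obtain rfl : m = 2 * k := by omega
    have := (key k (by omega)).2
    have : (0 : ℚ) < (1 / 2) ^ k := by positivity
    linarith
  · obtain rfl : m = 2 * k + 1 := by omega
    have hu0 : (0 : ℚ) < (1 / 2) ^ k := by positivity
    have hu1 : ((1 : ℚ) / 2) ^ k ≤ 1 / 1024 :=
      (pow_le_pow_of_le_one (by norm_num) (by norm_num) (show 10 ≤ k by omega)).trans_eq (by norm_num)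
    obtain ⟨h1, h2⟩ := key k (by omega)
    obtain ⟨-, s2, -, -⟩ := bndO_step (show 20 ≤ k by omega) rfl hu0 hu1
    simp only [] at s2
    obtain ⟨⟨a0, b0⟩, c0, d0⟩ := bndO_nonneg (2 * k)
    generalize ((1 : ℚ) / 2) ^ k = u at *
    have hT : (bndO (2 * k)).1.1 + (bndO (2 * k)).1.2 ≤ 26 :=
      le_trans (le_mul_of_one_le_right (add_nonneg a0 b0) (by linarith)) h1
    have hP : (bndO (2 * k)).2.1 + (bndO (2 * k)).2.2 ≤ 15 := by linarith
    have := mul_le_mul_of_nonneg_right hT hu0.le
    have := mul_le_mul_of_nonneg_right hP hu0.le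
    linarith

/-- The weighted number of positive words is at most `15`. -/
theorem sum_pc_le (D H : ℕ) :
    ∑ h ∈ Finset.range H, ((pc D h false + pc D h true : ℕ) : ℚ) / 2 ^ h ≤ 15 := by
  have h := fsum_add (fun h => pc D h false) (fun h => pc D h true) H
  exact (le_of_eq h).trans ((add_le_add (fsum_bndO D H).2.1 (fsum_bndO D H).2.2).trans (bndO_le D))

end Cfsg.Lib.Linear.UniTwo
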