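import Mathlib

/-!
# Unipotent isometries in characteristic two

`B` is alternating, `1 + n` preserves it and `R` is a quadratic map with polar `B (n ^ s x) (n ^ s y)`:
for `s = 1` it is `x ↦ B x (n x)`, for `s = 0` an invariant quadratic form with polar `B`.
The quadratic maps `qf j = R ∘ n ^ (j - s)` have polar `B (n ^ j x) (n ^ j y)`.
-/

set_option autoImplicit false

universe u v

namespace Cfsg.Lib.Linear.UniTwo

variable {F : Type u} [Field F] {V : Type v} [AddCommGroup V] [Module F V]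

/-- An isometry `1 + n` of a nondegenerate alternating form with its quadratic map. -/
structure IsSys (s : ℕ) (n : Module.End F V) (B : LinearMap.BilinForm F V) (R : V → F) : Prop where
  le : s ≤ 1
  alt : ∀ x, B x x = 0
  sep : ∀ x, (∀ y, B x y = 0) → x = 0
  adj : ∀ x y, B (n x) y + B x (n y) + B (n x) (n y) = 0
  rsmul : ∀ (c : F) x, R (c • x) = c ^ 2 * R x
  radd : ∀ x y, R (x + y) = R x + R y + B ((n ^ s) x) ((n ^ s) y)
  cross : ∀ x, B x (n x) = R ((n ^ (1 - s)) x)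

/-- The quadratic map of level `j`. -/
def qf (s : ℕ) (n : Module.End F V) (R : V → F) (j : ℕ) (x : V) : F := R ((n ^ (j - s)) x)

theorem pp (n : Module.End F V) (a b : ℕ) (x : V) : (n ^ a) ((n ^ b) x) = (n ^ (a + b)) x := by
  rw [pow_add, Module.End.mul_apply]

theorem pow_zero_apply (n : Module.End F V) (x : V) : (n ^ 0) x = x := by rw [pow_zero, Module.End.one_apply]

theorem pow_one_apply (n : Module.End F V) (x : V) : (n ^ 1) x = n x := by rw [pow_one]

theorem pow_eq_zero_le {n : Module.End F V} {a b : ℕ} {x : V} (h : (n ^ a) x = 0) (hab : a ≤ b) :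
    (n ^ b) x = 0 := by
  rw [← Nat.sub_add_cancel hab, ← pp, h, map_zero]

namespace IsSys

variable {s : ℕ} {n : Module.End F V} {B : LinearMap.BilinForm F V} {R : V → F} (h : IsSys s n B R)
include h

theorem symm [CharP F 2] (x y : V) : B y x = B x y := by
  have h1 := h.alt (x + y)
  simp only [map_add, LinearMap.add_apply, h.alt, zero_add, add_zero] at h1
  exact CharTwo.add_eq_zero.1 h1

theorem shift [CharP F 2] (a b : ℕ) (x y : V) : B ((n ^ a) x) ((n ^ (b + 1)) y) =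
    B ((n ^ (a + 1)) x) ((n ^ b) y) + B ((n ^ (a + 1)) x) ((n ^ (b + 1)) y) := by
  have h1 := h.adj ((n ^ a) x) ((n ^ b) y)
  rw [← Module.End.mul_apply, ← pow_succ', ← Module.End.mul_apply, ← pow_succ'] at h1
  refine (CharTwo.add_eq_zero.1 ?_).symm
  linear_combination h1

theorem mul_zero_left [CharP F 2] {x : V} : ∀ (b a : ℕ), (n ^ (a + b)) x = 0 → ∀ y, B ((n ^ a) x) ((n ^ b) y) = 0
  | 0, a, hx, y => by rw [Nat.add_zero] at hx; rw [hx, map_zero, LinearMap.zero_apply]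
  | b + 1, a, hx, y => by
    have h2 : (n ^ (a + 1 + b)) x = 0 := by rwa [Nat.add_assoc, Nat.add_comm 1 b]
    have h3 := mul_zero_left b (a + 1) h2 ((n ^ 1) y)
    rw [pp] at h3
    rw [h.shift, mul_zero_left b (a + 1) h2 y, h3, add_zero]

theorem mul_zero_right [CharP F 2] {y : V} {a b : ℕ} (hy : (n ^ (a + b)) y = 0) (x : V) :
    B ((n ^ a) x) ((n ^ b) y) = 0 := by
  rw [h.symm]; exact h.mul_zero_left a b (by rwa [Nat.add_comm]) x

theorem top [CharP F 2] {x : V} : ∀ (b a : ℕ), (n ^ (a + b + 1)) x = 0 → ∀ y,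
    B ((n ^ a) x) ((n ^ b) y) = B ((n ^ (a + b)) x) y
  | 0, a, _, y => by rw [pow_zero_apply, Nat.add_zero]
  | b + 1, a, hx, y => by
    rw [h.shift, h.mul_zero_left (b + 1) (a + 1) (pow_eq_zero_le hx (by omega)), add_zero,
      top b (a + 1) (pow_eq_zero_le hx (by omega)), Nat.add_assoc, Nat.add_comm 1 b]

theorem qf_smul (j : ℕ) (c : F) (x : V) : qf s n R j (c • x) = c ^ 2 * qf s n R j x := by
  rw [qf, map_smul, h.rsmul]; rfl

theorem qf_zero (j : ℕ) : qf s n R j 0 = 0 := by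
  rw [qf, map_zero, ← zero_smul F (0 : V), h.rsmul]; simp

theorem qf_add {j : ℕ} (hj : s ≤ j) (x y : V) :
    qf s n R j (x + y) = qf s n R j x + qf s n R j y + B ((n ^ j) x) ((n ^ j) y) := by
  rw [qf, map_add, h.radd, pp, pp, Nat.add_sub_cancel' hj]; rfl

theorem qf_pow {j : ℕ} (hj : s ≤ j) (i : ℕ) (x : V) : qf s n R j ((n ^ i) x) = qf s n R (j + i) x := by
  rw [qf, pp, qf, Nat.sub_add_comm hj]

theorem cross_pow (a : ℕ) (x : V) : B ((n ^ a) x) ((n ^ (a + 1)) x) = qf s n R (a + 1) x := by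
  have h1 := h.cross ((n ^ a) x)
  rw [← pow_one_apply n ((n ^ a) x), pp, pp, Nat.add_comm 1 a] at h1
  rw [h1, qf]
  congr 2
  have := h.le
  congr 1
  omega

theorem qf_high [CharP F 2] {j M : ℕ} {x : V} (hM : (n ^ M) x = 0) (hj : M + 1 ≤ 2 * j) : qf s n R j x = 0 := by
  obtain ⟨a, rfl⟩ : ∃ a, j = a + 1 := ⟨j - 1, by omega⟩
  rw [← h.cross_pow, h.mul_zero_left (a + 1) a (pow_eq_zero_le hM (by omega))]

theorem qf_top [CharP F 2] {k : ℕ} (hk : 1 ≤ k) {x : V} (hx : (n ^ (2 * k)) x = 0) :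
    qf s n R k x = B ((n ^ (2 * k - 1)) x) x := by
  obtain ⟨a, rfl⟩ : ∃ a, k = a + 1 := ⟨k - 1, by omega⟩
  rw [← h.cross_pow, h.top (a + 1) a (pow_eq_zero_le hx (by omega))]
  rw [show a + (a + 1) = 2 * (a + 1) - 1 by omega]

theorem odd_top [CharP F 2] {k : ℕ} {x : V} (hx : (n ^ (2 * k + 1)) x = 0) : B ((n ^ (2 * k)) x) x = 0 := by
  have h1 := h.top k k (pow_eq_zero_le hx (by omega)) x
  rw [h.alt, ← two_mul] at h1
  exact h1.symm

theorem top_symm [CharP F 2] {T : ℕ} {x y : V} (hx : (n ^ (T + 1)) x = 0) :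
    B ((n ^ T) x) y = B ((n ^ T) y) x := by
  have h1 := h.top T 0 (pow_eq_zero_le hx (by omega)) y
  rw [Nat.zero_add, pow_zero_apply] at h1
  rw [← h1, h.symm]

end IsSys

end Cfsg.Lib.Linear.UniTwo
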