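import Cfsg.Agent.Lib.Linear.UniTwo.Piece

/-!
# Normal vectors of pieces

A pair with top pairing one, and a vector of value one at the top level of an even exponent, can be moved
so that all values below the top vanish, except the value next to the top in the cyclic case, which can be
reduced modulo `c ^ 2 + c`.
-/

set_option autoImplicit false

universe u v

namespace Cfsg.Lib.Linear.UniTwo

variable {F : Type u} [Field F] [CharP F 2]

section Field

theorem exists_sqrt [Finite F] (a : F) : ∃ c : F, c ^ 2 = a := by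
  obtain ⟨c, hc⟩ := FiniteField.isSquare_of_char_two (ringChar.eq F 2) a
  exact ⟨c, by rw [hc, sq]⟩

/-- The additive map `c ↦ c ^ 2 + c`. -/
def artin (F : Type u) [Field F] [CharP F 2] : F →+ F where
  toFun c := c ^ 2 + c
  map_zero' := by simp
  map_add' a b := by rw [CharTwo.add_sq]; ring

theorem artin_apply (c : F) : artin F c = c ^ 2 + c := rfl

theorem exists_not_artin [Finite F] : ∃ a₀ : F, a₀ ∉ (artin F).range := by
  by_contra hall
  push Not at hall
  have hinj : Function.Injective (artin F) :=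
    Finite.injective_iff_surjective.2 fun a => hall a
  exact one_ne_zero (hinj (a₁ := 1) (a₂ := 0) (by simp [artin_apply, CharTwo.two_eq_zero, CharTwo.add_self_eq_zero]))

theorem artin_cases [Finite F] {a₀ : F} (h : a₀ ∉ (artin F).range) (a : F) :
    a ∈ (artin F).range ∨ a + a₀ ∈ (artin F).range := by
  have hk : (artin F).ker = ({0, 1} : Set F) := by
    ext c
    rw [SetLike.mem_coe, AddMonoidHom.mem_ker, artin_apply, Set.mem_insert_iff, Set.mem_singleton_iff,
      show c ^ 2 + c = c * (c + 1) by ring, mul_eq_zero, CharTwo.add_eq_zero]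
  have h2 : Nat.card (artin F).ker = 2 := by
    show Nat.card ((artin F).ker : Set F) = 2
    rw [hk]
    exact Nat.card_eq_two_iff.2 ⟨⟨0, Or.inl rfl⟩, ⟨1, Or.inr rfl⟩, by simp [Subtype.ext_iff], by
      ext ⟨c, hc⟩; rcases hc with rfl | rfl <;> simp⟩
  have hi : (artin F).range.index = 2 := by
    have h1 := (artin F).range.card_mul_index
    have h3 := (artin F).ker.card_mul_index
    rw [AddSubgroup.index_ker, h2] at h3
    have hpos : 0 < Nat.card (artin F).range := Nat.card_pos
    exact Nat.eq_of_mul_eq_mul_left hpos (h1.trans (h3.symm.trans (mul_comm _ _)))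
  by_cases ha : a ∈ (artin F).range
  · exact Or.inl ha
  · exact Or.inr ((AddSubgroup.add_mem_iff_of_index_two hi).2 (iff_of_false ha h))

end Field

variable {V : Type v} [AddCommGroup V] [Module F V]
variable {s : ℕ} {n : Module.End F V} {B : LinearMap.BilinForm F V} {R : V → F}
variable {U : Submodule F V}

/-- A pair with top pairing one and no values at the middle level of an even exponent. -/
structure Pair (s : ℕ) (n : Module.End F V) (B : LinearMap.BilinForm F V) (R : V → F) (U : Submodule F V)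
    (m : ℕ) (x y : V) : Prop where
  pos : 1 ≤ m
  memx : x ∈ U
  memy : y ∈ U
  kx : (n ^ m) x = 0
  ky : (n ^ m) y = 0
  one : B ((n ^ (m - 1)) x) y = 1
  even : ∀ k, m = 2 * k → qf s n R k x = 0 ∧ qf s n R k y = 0

namespace Pair

variable (h : IsSys s n B R) {m : ℕ} {x y : V} (p : Pair s n B R U m x y)
include h p

theorem selfx : B ((n ^ (m - 1)) x) x = 0 := by
  rcases Nat.even_or_odd m with ⟨k, hk⟩ | ⟨k, hk⟩
  · rw [← two_mul] at hk
    have := p.pos
    rw [hk, ← h.qf_top (by omega) (hk ▸ p.kx)]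
    exact (p.even k hk).1
  · rw [hk, Nat.add_sub_cancel]
    exact h.odd_top (hk ▸ p.kx)

theorem selfy : B ((n ^ (m - 1)) y) y = 0 := by
  rcases Nat.even_or_odd m with ⟨k, hk⟩ | ⟨k, hk⟩
  · rw [← two_mul] at hk
    have := p.pos
    rw [hk, ← h.qf_top (by omega) (hk ▸ p.ky)]
    exact (p.even k hk).2
  · rw [hk, Nat.add_sub_cancel]
    exact h.odd_top (hk ▸ p.ky)

theorem one' : B ((n ^ (m - 1)) y) x = 1 := by
  have := p.pos
  rw [h.top_symm (pow_eq_zero_le p.ky (by omega)), p.one]

theorem high (l : ℕ) (hl : m ≤ 2 * l) : qf s n R l x = 0 ∧ qf s n R l y = 0 := by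
  rcases hl.lt_or_eq with h1 | h1
  · exact ⟨h.qf_high p.kx h1, h.qf_high p.ky h1⟩
  · exact p.even l h1

theorem val {a b : ℕ} (hab : m ≤ a + b + 1) {u w : V} (hu : u = x ∨ u = y) (w0 : F)
    (hw : B ((n ^ (m - 1)) u) w = w0) : B ((n ^ a) u) ((n ^ b) w) = if a + b + 1 = m then w0 else 0 := by
  have hk : (n ^ m) u = 0 := by rcases hu with rfl | rfl; exacts [p.kx, p.ky]
  split_ifs with he
  · rw [h.top b a (pow_eq_zero_le hk (by omega)), show a + b = m - 1 by omega, hw]
  · exact h.mul_zero_left b a (pow_eq_zero_le hk (by omega)) w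

/-- All values below the top can be removed. -/
theorem lower (hU : Sub n B U) : ∃ x' y', Pair s n B R U m x' y' ∧
    (∀ d, d + 1 < m → B ((n ^ d) x') y' = 0) ∧
    (∀ j, s ≤ j → 2 * j + 1 < m → qf s n R j x' = 0 ∧ qf s n R j y' = 0) ∧
    (∀ j, s ≤ j → 2 * j + 1 = m → qf s n R j x' = qf s n R j x ∧ qf s n R j y' = qf s n R j y) := by
  suffices key : ∀ t, ∃ x' y', Pair s n B R U m x' y' ∧
      (∀ d, d + 1 < m → m ≤ d + 1 + t → B ((n ^ d) x') y' = 0) ∧
      (∀ j, s ≤ j → 2 * j + 1 < m → m ≤ 2 * j + 1 + t → qf s n R j x' = 0 ∧ qf s n R j y' = 0) ∧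
      (∀ j, s ≤ j → 2 * j + 1 = m → qf s n R j x' = qf s n R j x ∧ qf s n R j y' = qf s n R j y) by
    obtain ⟨x', y', h1, h2, h3, h4⟩ := key m
    exact ⟨x', y', h1, fun d hd => h2 d hd (by omega), fun j h5 h6 => h3 j h5 h6 (by omega), h4⟩
  intro t
  induction t with
  | zero => exact ⟨x, y, p, fun d _ _ => by omega, fun j _ _ _ => by omega, fun j _ _ => ⟨rfl, rfl⟩⟩
  | succ t ih =>
    obtain ⟨u, w, q, hd, hq, htop⟩ := ih
    rcases Nat.lt_or_ge (t + 1) m with htm | htm
    swap
    · exact ⟨u, w, q, fun d h1 h2 => hd d h1 (by omega), fun j h1 h2 h3 => hq j h1 h2 (by omega), htop⟩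
    obtain ⟨d₀, hd₀⟩ : ∃ d₀, m = d₀ + 1 + (t + 1) := ⟨m - (t + 2), by omega⟩
    set i := t + 1 with hi
    set c₁ := B ((n ^ d₀) u) w with hc₁
    set c₂ : F := if d₀ % 2 = 0 ∧ s ≤ d₀ / 2 then qf s n R (d₀ / 2) u else 0 with hc₂
    set c₄ : F := if d₀ % 2 = 0 ∧ s ≤ d₀ / 2 then qf s n R (d₀ / 2) w else 0 with hc₄
    set z := c₁ • u + c₂ • w with hz
    have hzU : z ∈ U := add_mem (U.smul_mem _ q.memx) (U.smul_mem _ q.memy)
    have hself := q.selfx h
    have hselfy := q.selfy h
    have hone := q.one' h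
    have zval : ∀ {a b : ℕ}, m ≤ a + b + 1 → B ((n ^ a) u) ((n ^ b) z) = if a + b + 1 = m then c₂ else 0 :=
      fun {a b} hab => by
      simp only [hz, map_add, map_smul, smul_eq_mul, q.val h hab (Or.inl rfl) 0 hself,
        q.val h hab (Or.inl rfl) 1 q.one]
      split_ifs <;> ring
    have zval' : ∀ {a b : ℕ}, m ≤ a + b + 1 → B ((n ^ a) z) ((n ^ b) w) = if a + b + 1 = m then c₁ else 0 :=
      fun {a b} hab => by
      simp only [hz, map_add, map_smul, LinearMap.add_apply, LinearMap.smul_apply, smul_eq_mul,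
        q.val h hab (Or.inr rfl) 0 hselfy, q.val h hab (Or.inl rfl) 1 q.one]
      split_ifs <;> ring
    have hkz : (n ^ m) z = 0 := by rw [hz, map_add, map_smul, map_smul, q.kx, q.ky, smul_zero, smul_zero, add_zero]
    have qz : ∀ l, s ≤ l → m ≤ 2 * l → qf s n R l z = 0 := fun l hl hml => by
      rw [hz, h.qf_add hl, h.qf_smul, h.qf_smul, (q.high h l hml).1, (q.high h l hml).2, map_smul, map_smul, map_smul,
        map_smul, LinearMap.smul_apply, h.mul_zero_left l l (pow_eq_zero_le q.kx (by omega))]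
      simp
    set u' := u + (n ^ i) z with hu'
    set w' := w + c₄ • (n ^ i) u with hw'
    have hQu : ∀ j, s ≤ j → d₀ ≤ 2 * j → qf s n R j u' = qf s n R j u + if 2 * j = d₀ then c₂ else 0 :=
      fun j hj hjd => by
      rw [hu', h.qf_add hj, h.qf_pow hj, qz (j + i) (by omega) (by omega), pp, zval (by omega), add_zero]
      congr 1
      exact if_congr (by omega) rfl rfl
    have hQw : ∀ j, s ≤ j → d₀ ≤ 2 * j → qf s n R j w' = qf s n R j w + if 2 * j = d₀ then c₄ else 0 :=
      fun j hj hjd => by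
      rw [hw', h.qf_add hj, h.qf_smul, h.qf_pow hj, (q.high h (j + i) (by omega)).1, mul_zero, add_zero,
        map_smul, map_smul, pp, q.val h (by omega) (Or.inr rfl) 1 hone, smul_eq_mul]
      split_ifs with h1 h2 <;> first
        | omega
        | simp
    have hpair : ∀ d, d₀ ≤ d → B ((n ^ d) u') w' = B ((n ^ d) u) w + if d = d₀ then c₁ else 0 := fun d hd' => by
      simp only [hu', hw', map_add, map_smul, LinearMap.add_apply, pp]
      have e1 := zval' (a := d + i) (b := 0) (by omega)
      have e2 := q.val h (a := d) (b := i) (by omega) (Or.inl rfl) 0 hself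
      rw [pow_zero_apply] at e1
      rw [e1, e2, ite_self, h.mul_zero_left i (d + i) (pow_eq_zero_le hkz (by omega))]
      simp only [smul_eq_mul, mul_zero, add_zero]
      congr 1
      exact if_congr (by omega) rfl rfl
    have q' : Pair s n B R U m u' w' := by
      refine ⟨q.pos, add_mem q.memx (hU.pow_mem hzU _), add_mem q.memy (U.smul_mem _ (hU.pow_mem q.memx _)),
        by rw [hu', map_add, q.kx, pp, pow_eq_zero_le hkz (by omega), add_zero],
        by rw [hw', map_add, q.ky, map_smul, pp, pow_eq_zero_le q.kx (by omega), smul_zero, add_zero],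
        by rw [hpair _ (by omega), if_neg (by omega), q.one, add_zero], fun k hk => ?_⟩
      have hk1 : s ≤ k := by have := h.le; omega
      rw [hQu k hk1 (by omega), hQw k hk1 (by omega), if_neg (by omega), if_neg (by omega), add_zero, add_zero]
      exact q.even k hk
    refine ⟨u', w', q', fun d h1 h2 => ?_, fun j h1 h2 h3 => ?_, fun j h1 h2 => ?_⟩
    · rw [hpair d (by omega)]
      split_ifs with he
      · rw [he, ← hc₁, CharTwo.add_self_eq_zero]
      · rw [add_zero, hd d h1 (by omega)]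
    · rw [hQu j h1 (by omega), hQw j h1 (by omega)]
      split_ifs with he
      · have hcnd : d₀ % 2 = 0 ∧ s ≤ d₀ / 2 := by omega
        rw [hc₂, hc₄, if_pos hcnd, if_pos hcnd, show d₀ / 2 = j by omega, CharTwo.add_self_eq_zero,
          CharTwo.add_self_eq_zero]
        exact ⟨rfl, rfl⟩
      · rw [add_zero, add_zero]; exact hq j h1 h2 (by omega)
    · rw [hQu j h1 (by omega), hQw j h1 (by omega), if_neg (by omega), if_neg (by omega), add_zero, add_zero]
      exact htop j h1 h2

end Pair

/-- A vector of value one at the top level of the exponent `2 k`. -/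
structure Cyc (s : ℕ) (n : Module.End F V) (R : V → F) (U : Submodule F V) (k : ℕ) (x : V) : Prop where
  pos : 1 ≤ k
  mem : x ∈ U
  killed : (n ^ (2 * k)) x = 0
  one : qf s n R k x = 1

namespace Cyc

variable (h : IsSys s n B R) {k : ℕ} {x : V} (p : Cyc s n R U k x)
include h p

theorem le' : s ≤ k := h.le.trans p.pos

theorem self : B ((n ^ (2 * k - 1)) x) x = 1 := by rw [← h.qf_top p.pos p.killed, p.one]

theorem val {a b : ℕ} (hab : 2 * k ≤ a + b + 1) :
    B ((n ^ a) x) ((n ^ b) x) = if a + b + 1 = 2 * k then 1 else 0 := by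
  split_ifs with he
  · rw [h.top b a (pow_eq_zero_le p.killed (by omega)), show a + b = 2 * k - 1 by omega, p.self h]
  · exact h.mul_zero_left b a (pow_eq_zero_le p.killed (by omega)) x

theorem high {l : ℕ} (hl : k < l) : qf s n R l x = 0 := h.qf_high p.killed (by omega)

/-- The value next to the top changes by `c ^ 2 + c`. -/
theorem adjust (hU : Sub n B U) (hk : s + 1 ≤ k) (c : F) : ∃ x', Cyc s n R U k x' ∧
    qf s n R (k - 1) x' = qf s n R (k - 1) x + (c ^ 2 + c) := by
  refine ⟨x + c • (n ^ 1) x, ⟨p.pos, add_mem p.mem (U.smul_mem _ (hU.pow_mem p.mem _)),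
    by rw [map_add, p.killed, map_smul, pp, pow_eq_zero_le p.killed (by omega), smul_zero, add_zero], ?_⟩, ?_⟩
  · rw [h.qf_add (p.le' h), h.qf_smul, h.qf_pow (p.le' h), p.high h (l := k + 1) (by omega), p.one, map_smul,
      map_smul, pp, p.val h (by omega), if_neg (by omega)]
    simp
  · rw [h.qf_add (by omega), h.qf_smul, h.qf_pow (by omega), show k - 1 + 1 = k by omega, p.one, map_smul,
      map_smul, pp, p.val h (by omega), if_pos (by omega), smul_eq_mul]
    ring

/-- All values below the one next to the top can be removed. -/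
theorem lower (hU : Sub n B U) : ∃ x', Cyc s n R U k x' ∧
    (∀ j, s ≤ j → j + 2 ≤ k → qf s n R j x' = 0) ∧ ∀ j, s ≤ j → j + 1 = k → qf s n R j x' = qf s n R j x := by
  suffices key : ∀ t, ∃ x', Cyc s n R U k x' ∧ (∀ j, s ≤ j → j + 2 ≤ k → k ≤ j + 1 + t → qf s n R j x' = 0) ∧
      ∀ j, s ≤ j → j + 1 = k → qf s n R j x' = qf s n R j x by
    obtain ⟨x', h1, h2, h3⟩ := key k
    exact ⟨x', h1, fun j h4 h5 => h2 j h4 h5 (by omega), h3⟩
  intro t
  induction t with
  | zero => exact ⟨x, p, fun j _ _ _ => by omega, fun j _ _ => rfl⟩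
  | succ t ih =>
    obtain ⟨u, q, hq, htop⟩ := ih
    by_cases hcase : t + 2 ≤ k ∧ s ≤ k - (t + 2)
    swap
    · exact ⟨u, q, fun j h1 h2 h3 => hq j h1 h2 (by omega), htop⟩
    set j₀ := k - (t + 2) with hj₀
    set i := 2 * (k - j₀) - 1 with hi
    set c := qf s n R j₀ u with hc
    have hQ : ∀ l, s ≤ l → j₀ ≤ l → qf s n R l (u + c • (n ^ i) u) = qf s n R l u + if l = j₀ then c else 0 :=
      fun l hl hjl => by
      rw [h.qf_add hl, h.qf_smul, h.qf_pow hl, q.high h (l := l + i) (by omega), map_smul, map_smul, pp,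
        q.val h (by omega), smul_eq_mul]
      split_ifs <;> first
        | omega
        | simp
    refine ⟨u + c • (n ^ i) u, ⟨q.pos, add_mem q.mem (U.smul_mem _ (hU.pow_mem q.mem _)),
      by rw [map_add, q.killed, map_smul, pp, pow_eq_zero_le q.killed (by omega), smul_zero, add_zero],
      by rw [hQ k (q.le' h) (by omega), if_neg (by omega), q.one, add_zero]⟩, fun j h1 h2 h3 => ?_, fun j h1 h2 => ?_⟩
    · rw [hQ j h1 (by omega)]
      split_ifs with he
      · rw [he, ← hc, CharTwo.add_self_eq_zero]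
      · rw [add_zero, hq j h1 h2 (by omega)]
    · rw [hQ j h1 (by omega), if_neg (by omega), add_zero, htop j h1 h2]

/-- An orthogonal vector with a value next to the top removes that value. -/
theorem absorb [Finite F] (hk : s + 1 ≤ k) {y : V} (hy : y ∈ U) (hky : (n ^ (2 * k - 1)) y = 0)
    (horth : ∀ a, B ((n ^ a) x) ((n ^ a) y) = 0) (hne : qf s n R (k - 1) y ≠ 0) :
    ∃ x', Cyc s n R U k x' ∧ qf s n R (k - 1) x' = 0 := by
  obtain ⟨c, hc⟩ := exists_sqrt (qf s n R (k - 1) x / qf s n R (k - 1) y)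
  have hy2 : (n ^ (2 * k)) y = 0 := pow_eq_zero_le hky (by omega)
  refine ⟨x + c • y, ⟨p.pos, add_mem p.mem (U.smul_mem _ hy),
    by rw [map_add, p.killed, map_smul, hy2, smul_zero, add_zero], ?_⟩, ?_⟩
  · rw [h.qf_add (p.le' h), h.qf_smul, h.qf_top p.pos hy2, hky, map_zero, LinearMap.zero_apply, map_smul, map_smul,
      horth, p.one]
    simp
  · rw [h.qf_add (by omega), h.qf_smul, map_smul, map_smul, horth, hc, div_mul_cancel₀ _ hne,
      CharTwo.add_self_eq_zero]
    simp

end Cyc

end Cfsg.Lib.Linear.UniTwo
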