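import Cfsg.Agent.Lib.Linear.UniTwo.Basic

/-!
# Generated pieces, their orthogonal complements and correspondences between systems
-/

set_option autoImplicit false

universe u v w

namespace Cfsg.Lib.Linear.UniTwo

variable {F : Type u} [Field F] [CharP F 2]
variable {V : Type v} [AddCommGroup V] [Module F V] {V' : Type w} [AddCommGroup V'] [Module F V']
variable {s : ℕ} {n : Module.End F V} {B : LinearMap.BilinForm F V} {R : V → F}
variable {n' : Module.End F V'} {B' : LinearMap.BilinForm F V'} {R' : V' → F}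

/-- Equal values at one position of each degree give equal Gram matrices. -/
theorem gram_eq (h : IsSys s n B R) (h' : IsSys s n' B' R') {M : ℕ} {x y : V} {x' y' : V'}
    (hx : (n ^ M) x = 0) (hx' : (n' ^ M) x' = 0)
    (anchor : ∀ T, ∃ a b, a + b = T ∧ B ((n ^ a) x) ((n ^ b) y) = B' ((n' ^ a) x') ((n' ^ b) y')) :
    ∀ a b, B ((n ^ a) x) ((n ^ b) y) = B' ((n' ^ a) x') ((n' ^ b) y') := by
  suffices key : ∀ k a b, M ≤ a + b + k → B ((n ^ a) x) ((n ^ b) y) = B' ((n' ^ a) x') ((n' ^ b) y') from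
    fun a b => key M a b (by omega)
  intro k
  induction k with
  | zero =>
    intro a b hab
    rw [h.mul_zero_left b a (pow_eq_zero_le hx (by omega)), h'.mul_zero_left b a (pow_eq_zero_le hx' (by omega))]
  | succ k ih =>
    intro a b hab
    set δ : ℕ → ℕ → F := fun a b => B ((n ^ a) x) ((n ^ b) y) - B' ((n' ^ a) x') ((n' ^ b) y') with hδ
    have hstep : ∀ a b, M ≤ a + b + 1 + (k + 1) → δ a (b + 1) = δ (a + 1) b := fun a b hb => by
      simp only [hδ]
      rw [h.shift, h'.shift, ih (a + 1) (b + 1) (by omega)]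
      ring
    have hrun : ∀ b a, M ≤ a + b + (k + 1) → δ a b = δ (a + b) 0 := fun b => by
      induction b with
      | zero => intro a _; rfl
      | succ b ihb =>
        intro a hb
        rw [hstep a b (by omega), ihb (a + 1) (by omega), Nat.add_assoc, Nat.add_comm 1 b]
    obtain ⟨a₀, b₀, he, heq⟩ := anchor (a + b)
    have h1 := hrun b₀ a₀ (by omega)
    rw [he] at h1
    have h2 := hrun b a hab
    rw [← h1, show δ a₀ b₀ = 0 from sub_eq_zero.2 heq] at h2
    exact sub_eq_zero.1 h2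

/-- Equal values of the quadratic maps give equal Gram matrices of a cyclic piece. -/
theorem gram_self (h : IsSys s n B R) (h' : IsSys s n' B' R') {M : ℕ} {x : V} {x' : V'}
    (hx : (n ^ M) x = 0) (hx' : (n' ^ M) x' = 0) (hq : ∀ j, s ≤ j → qf s n R j x = qf s n' R' j x') :
    ∀ a b, B ((n ^ a) x) ((n ^ b) x) = B' ((n' ^ a) x') ((n' ^ b) x') := by
  refine gram_eq h h' hx hx' fun T => ?_
  rcases Nat.even_or_odd T with ⟨a, rfl⟩ | ⟨a, rfl⟩
  · exact ⟨a, a, rfl, by rw [h.alt, h'.alt]⟩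
  · exact ⟨a, a + 1, by omega, by rw [h.cross_pow, h'.cross_pow, hq _ (by have := h.le; omega)]⟩

/-- The vectors `n ^ a (v i)`. -/
def gen {r : ℕ} (n : Module.End F V) (m : ℕ) (v : Fin r → V) : Fin r × Fin m → V :=
  fun p => (n ^ (p.2 : ℕ)) (v p.1)

/-- The piece generated by the `v i`. -/
def gens {r : ℕ} (n : Module.End F V) (m : ℕ) (v : Fin r → V) : Submodule F V :=
  Submodule.span F (Set.range (gen n m v))

/-- The orthogonal space. -/
def perp (B : LinearMap.BilinForm F V) (P : Submodule F V) : Submodule F V where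
  carrier := {u | ∀ q ∈ P, B q u = 0}
  zero_mem' := fun q _ => map_zero _
  add_mem' := fun {a b} ha hb q hq => by rw [map_add, ha q hq, hb q hq, add_zero]
  smul_mem' := fun c {a} ha q hq => by rw [map_smul, ha q hq, smul_zero]

theorem mem_perp {P : Submodule F V} {u : V} : u ∈ perp B P ↔ ∀ q ∈ P, B q u = 0 := Iff.rfl

section Gens

variable {r m : ℕ} {v : Fin r → V}

theorem pow_mem_gens (hz : ∀ i, (n ^ m) (v i) = 0) (a : ℕ) (i : Fin r) : (n ^ a) (v i) ∈ gens n m v := by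
  rcases Nat.lt_or_ge a m with ha | ha
  · exact Submodule.subset_span ⟨(i, ⟨a, ha⟩), rfl⟩
  · rw [pow_eq_zero_le (hz i) ha]; exact zero_mem _

theorem gens_inv (hz : ∀ i, (n ^ m) (v i) = 0) : ∀ x ∈ gens n m v, n x ∈ gens n m v := fun x hx => by
  induction hx using Submodule.span_induction with
  | mem x hx =>
    obtain ⟨p, rfl⟩ := hx
    rw [gen, ← pow_one_apply n ((n ^ _) _), pp]
    exact pow_mem_gens hz _ _
  | zero => rw [map_zero]; exact zero_mem _
  | add x y _ _ hx hy => rw [map_add]; exact add_mem hx hy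
  | smul c x _ hx => rw [map_smul]; exact Submodule.smul_mem _ c hx

theorem gens_killed (hz : ∀ i, (n ^ m) (v i) = 0) : ∀ x ∈ gens n m v, (n ^ m) x = 0 := fun x hx => by
  induction hx using Submodule.span_induction with
  | mem x hx =>
    obtain ⟨p, rfl⟩ := hx
    rw [gen, pp]
    exact pow_eq_zero_le (hz _) (by omega)
  | zero => exact map_zero _
  | add x y _ _ hx hy => rw [map_add, hx, hy, add_zero]
  | smul c x _ hx => rw [map_smul, hx, smul_zero]

variable (h : IsSys s n B R) (hz : ∀ i, (n ^ m) (v i) = 0)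
  (htop : ∀ c : Fin r → F, (∀ j, ∑ i, c i * B ((n ^ (m - 1)) (v i)) (v j) = 0) → c = 0)
include h hz htop

theorem coeff_zero {c : Fin r × Fin m → F} (hc : ∀ p, B (gen n m v p) (∑ p', c p' • gen n m v p') = 0) :
    c = 0 := by
  classical
  suffices key : ∀ l, ∀ p : Fin r × Fin m, (p.2 : ℕ) < l → c p = 0 from funext fun p => key m p p.2.isLt
  intro l
  induction l with
  | zero => intro p hp; omega
  | succ l ih =>
    intro p hp
    rcases Nat.lt_succ_iff_lt_or_eq.1 hp with h1 | h1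
    · exact ih p h1
    have hlm : l < m := h1 ▸ p.2.isLt
    have hd := htop (fun i => c (i, ⟨l, hlm⟩)) fun j => ?_
    · have := congrFun hd p.1
      rw [show p = (p.1, ⟨l, hlm⟩) from Prod.ext rfl (Fin.ext h1)]
      exact this
    have h2 := hc (j, ⟨m - 1 - l, by omega⟩)
    simp only [map_sum, map_smul, smul_eq_mul, gen, Fintype.sum_prod_type] at h2
    rw [← h2]
    refine Finset.sum_congr rfl fun i _ => ?_
    rw [Finset.sum_eq_single_of_mem (⟨l, hlm⟩ : Fin m) (Finset.mem_univ _)]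
    · rw [h.top l (m - 1 - l) (pow_eq_zero_le (hz j) (by omega)), show m - 1 - l + l = m - 1 by omega,
        h.top_symm (pow_eq_zero_le (hz i) (by omega))]
    · intro b _ hb
      rcases lt_trichotomy (b : ℕ) l with h3 | h3 | h3
      · rw [ih (i, b) h3, zero_mul]
      · exact absurd (Fin.ext h3) hb
      · rw [h.mul_zero_left (b : ℕ) (m - 1 - l) (pow_eq_zero_le (hz j) (by omega)), mul_zero]

theorem linearIndependent_gen : LinearIndependent F (gen n m v) :=
  Fintype.linearIndependent_iff.2 fun c hc p => congrFun (coeff_zero h hz htop fun p => by rw [hc, map_zero]) p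

theorem finrank_gens : Module.finrank F (gens n m v) = r * m := by
  rw [gens, finrank_span_eq_card (linearIndependent_gen h hz htop), Fintype.card_prod, Fintype.card_fin,
    Fintype.card_fin]

theorem gens_disjoint {x : V} (hx : x ∈ gens n m v) (hx' : x ∈ perp B (gens n m v)) : x = 0 := by
  classical
  obtain ⟨c, rfl⟩ := (Submodule.mem_span_range_iff_exists_fun F).1 hx
  rw [coeff_zero h hz htop fun p => hx' _ (Submodule.subset_span ⟨p, rfl⟩)]
  simp

theorem exists_proj (x : V) : ∃ p ∈ gens n m v, x - p ∈ perp B (gens n m v) := by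
  classical
  let Φ : (Fin r × Fin m → F) →ₗ[F] (Fin r × Fin m → F) :=
    { toFun := fun c p => B (gen n m v p) (∑ p', c p' • gen n m v p')
      map_add' := fun c d => by funext p; simp [add_smul, Finset.sum_add_distrib]
      map_smul' := fun a c => by funext p; simp [mul_smul, ← Finset.smul_sum] }
  have hinj : Function.Injective Φ := LinearMap.ker_eq_bot.1 (LinearMap.ker_eq_bot'.2 fun c hc =>
    coeff_zero h hz htop fun p => congrFun hc p)
  obtain ⟨c, hc⟩ := LinearMap.surjective_of_injective hinj fun p => B (gen n m v p) x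
  refine ⟨_, (Submodule.mem_span_range_iff_exists_fun F).2 ⟨c, rfl⟩, fun q hq => ?_⟩
  induction hq using Submodule.span_induction with
  | mem q hq =>
    obtain ⟨p, rfl⟩ := hq
    rw [map_sub, sub_eq_zero]
    exact (congrFun hc p).symm
  | zero => rw [map_zero, LinearMap.zero_apply]
  | add a b _ _ ha hb => rw [map_add, LinearMap.add_apply, ha, hb, add_zero]
  | smul a q _ hq => rw [map_smul, LinearMap.smul_apply, hq, smul_zero]

end Gens

/-- An invariant subspace on which the form is nondegenerate. -/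
structure Sub (n : Module.End F V) (B : LinearMap.BilinForm F V) (U : Submodule F V) : Prop where
  inv : ∀ x ∈ U, n x ∈ U
  sep : ∀ x ∈ U, (∀ y ∈ U, B x y = 0) → x = 0

theorem Sub.pow_mem {U : Submodule F V} (hU : Sub n B U) {x : V} (hx : x ∈ U) : ∀ a, (n ^ a) x ∈ U
  | 0 => by rwa [pow_zero_apply]
  | a + 1 => by rw [pow_succ', Module.End.mul_apply]; exact hU.inv _ (hU.pow_mem hx a)

theorem sub_top (h : IsSys s n B R) : Sub n B (⊤ : Submodule F V) :=
  ⟨fun _ _ => trivial, fun x _ hx => h.sep x fun y => hx y trivial⟩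

section Split

variable [FiniteDimensional F V] {r m : ℕ} {v : Fin r → V} {U : Submodule F V}

theorem split_sub (h : IsSys s n B R) (hU : Sub n B U) (hz : ∀ i, (n ^ m) (v i) = 0)
    (htop : ∀ c : Fin r → F, (∀ j, ∑ i, c i * B ((n ^ (m - 1)) (v i)) (v j) = 0) → c = 0) (hv : ∀ i, v i ∈ U) :
    gens n m v ≤ U ∧ U ≤ gens n m v ⊔ (U ⊓ perp B (gens n m v)) ∧ Sub n B (U ⊓ perp B (gens n m v)) ∧
      Module.finrank F ↥(U ⊓ perp B (gens n m v)) + r * m = Module.finrank F U := by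
  have hle : gens n m v ≤ U := Submodule.span_le.2 fun x ⟨p, hp⟩ => hp ▸ hU.pow_mem (hv _) _
  have hdec : U ≤ gens n m v ⊔ (U ⊓ perp B (gens n m v)) := fun x hx => by
    obtain ⟨p, hp, hxp⟩ := exists_proj h hz htop x
    rw [← add_sub_cancel p x]
    exact Submodule.add_mem_sup hp ⟨sub_mem hx (hle hp), hxp⟩
  refine ⟨hle, hdec, ⟨fun x hx => ⟨hU.inv x hx.1, fun q hq => ?_⟩, fun x hx hxy => hU.sep x hx.1 fun y hy => ?_⟩, ?_⟩
  · have key : ∀ i q, q ∈ gens n m v → (n ^ i) q = 0 → B q (n x) = 0 := fun i => by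
      induction i with
      | zero => intro q _ hq; rw [pow_zero_apply] at hq; rw [hq, map_zero, LinearMap.zero_apply]
      | succ i ih =>
        intro q hq hi
        have h1 := h.shift 0 0 q x
        simp only [Nat.zero_add, pow_zero_apply, pow_one_apply] at h1
        rw [h1, hx.2 _ (gens_inv hz q hq), ih _ (gens_inv hz q hq) (by rwa [← pow_one_apply n q, pp]), add_zero]
    exact key m q hq (gens_killed hz q hq)
  · obtain ⟨p, hp, u, hu, rfl⟩ := Submodule.mem_sup.1 (hdec hy)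
    rw [map_add, h.symm p x, hx.2 p hp, hxy u hu, add_zero]
  · rw [← finrank_gens h hz htop, add_comm]
    have h1 : gens n m v ⊓ (U ⊓ perp B (gens n m v)) = ⊥ :=
      eq_bot_iff.2 fun x hx => (Submodule.mem_bot F).2 (gens_disjoint h hz htop hx.1 hx.2.2)
    have h2 := Submodule.finrank_sup_add_finrank_inf_eq (gens n m v) (U ⊓ perp B (gens n m v))
    rw [h1, finrank_bot, Nat.add_zero] at h2
    rw [← h2, le_antisymm (sup_le hle inf_le_left) hdec]

end Split

/-- An isometric correspondence between invariant subspaces. -/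
def Corr (n : Module.End F V) (B : LinearMap.BilinForm F V) (R : V → F) (n' : Module.End F V')
    (B' : LinearMap.BilinForm F V') (R' : V' → F) (U : Submodule F V) (U' : Submodule F V') : Prop :=
  ∃ Γ : Submodule F (V × V'), Γ.map (LinearMap.fst F V V') = U ∧ Γ.map (LinearMap.snd F V V') = U' ∧
    (∀ p ∈ Γ, (n p.1, n' p.2) ∈ Γ) ∧ (∀ p ∈ Γ, ∀ q ∈ Γ, B' p.2 q.2 = B p.1 q.1) ∧ ∀ p ∈ Γ, R' p.2 = R p.1

theorem corr_bot (h : IsSys s n B R) (h' : IsSys s n' B' R') : Corr n B R n' B' R' ⊥ ⊥ := by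
  refine ⟨⊥, Submodule.map_bot _, Submodule.map_bot _, fun p hp => ?_, fun p hp q _ => ?_, fun p hp => ?_⟩ <;>
    rw [Submodule.mem_bot] at hp <;> subst hp
  · simp
  · simp
  · rw [Prod.snd_zero, Prod.fst_zero, ← zero_smul F (0 : V), h.rsmul, ← zero_smul F (0 : V'), h'.rsmul]
    simp

theorem corr_gens (h : IsSys s n B R) (h' : IsSys s n' B' R') {r m : ℕ} {v : Fin r → V} {v' : Fin r → V'}
    (hz : ∀ i, (n ^ m) (v i) = 0) (hz' : ∀ i, (n' ^ m) (v' i) = 0)
    (hB : ∀ i j a b, B ((n ^ a) (v i)) ((n ^ b) (v j)) = B' ((n' ^ a) (v' i)) ((n' ^ b) (v' j)))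
    (hR : ∀ i a, R ((n ^ a) (v i)) = R' ((n' ^ a) (v' i))) :
    Corr n B R n' B' R' (gens n m v) (gens n' m v') := by
  set f : Fin r × Fin m → V × V' := fun p => (gen n m v p, gen n' m v' p) with hf
  set Γ := Submodule.span F (Set.range f) with hΓ
  have hinv : ∀ p ∈ Γ, (n p.1, n' p.2) ∈ Γ := fun p hp => by
    induction hp using Submodule.span_induction with
    | mem p hp =>
      obtain ⟨⟨i, a⟩, rfl⟩ := hp
      simp only [hf, gen]
      rw [← pow_one_apply n ((n ^ _) _), ← pow_one_apply n' ((n' ^ _) _), pp, pp]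
      rcases Nat.lt_or_ge (1 + a) m with h1 | h1
      · exact Submodule.subset_span ⟨(i, ⟨1 + a, h1⟩), rfl⟩
      · rw [pow_eq_zero_le (hz i) h1, pow_eq_zero_le (hz' i) h1]; exact zero_mem _
    | zero => rw [Prod.fst_zero, Prod.snd_zero, map_zero, map_zero]; exact zero_mem _
    | add p q _ _ hp hq => simpa only [Prod.fst_add, Prod.snd_add, map_add, Prod.mk_add_mk] using add_mem hp hq
    | smul c p _ hp =>
      simpa only [Prod.smul_fst, Prod.smul_snd, map_smul, Prod.smul_mk] using Submodule.smul_mem _ c hp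
  have hBB : ∀ p ∈ Γ, ∀ q ∈ Γ, B' p.2 q.2 = B p.1 q.1 := fun p hp q hq => by
    induction hp, hq using Submodule.span_induction₂ with
    | mem_mem p q hp hq => obtain ⟨⟨i, a⟩, rfl⟩ := hp; obtain ⟨⟨j, b⟩, rfl⟩ := hq; exact (hB i j a b).symm
    | zero_left q _ => simp
    | zero_right p _ => simp
    | add_left p q r _ _ _ h1 h2 => simp [h1, h2]
    | add_right p q r _ _ _ h1 h2 => simp [h1, h2]
    | smul_left c p q _ _ h1 => simp [h1]
    | smul_right c p q _ _ h1 => simp [h1]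
  have hpow : ∀ a, ∀ p ∈ Γ, ((n ^ a) p.1, (n' ^ a) p.2) ∈ Γ := fun a => by
    induction a with
    | zero => intro p hp; rw [pow_zero_apply, pow_zero_apply]; exact hp
    | succ a ih =>
      intro p hp
      rw [pow_succ', pow_succ', Module.End.mul_apply, Module.End.mul_apply]
      exact hinv _ (ih p hp)
  refine ⟨Γ, ?_, ?_, hinv, hBB, fun p hp => ?_⟩
  · rw [hΓ, Submodule.map_span, gens, ← Set.range_comp]; rfl
  · rw [hΓ, Submodule.map_span, gens, ← Set.range_comp]; rfl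
  induction hp using Submodule.span_induction with
  | mem p hp => obtain ⟨⟨i, a⟩, rfl⟩ := hp; exact (hR i a).symm
  | zero => rw [Prod.snd_zero, Prod.fst_zero, ← zero_smul F (0 : V), h.rsmul, ← zero_smul F (0 : V'), h'.rsmul]; simp
  | add p q hp hq h1 h2 => rw [Prod.snd_add, Prod.fst_add, h.radd, h'.radd, h1, h2, hBB _ (hpow s p hp) _ (hpow s q hq)]
  | smul c p _ h1 => rw [Prod.smul_snd, Prod.smul_fst, h.rsmul, h'.rsmul, h1]

theorem corr_sup (h : IsSys s n B R) (h' : IsSys s n' B' R') {P U : Submodule F V} {P' U' : Submodule F V'}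
    (hU : U ≤ perp B P) (hU' : U' ≤ perp B' P') (hPinv : ∀ x ∈ P, n x ∈ P) (hPinv' : ∀ x ∈ P', n' x ∈ P')
    (hUinv : ∀ x ∈ U, n x ∈ U) (hUinv' : ∀ x ∈ U', n' x ∈ U')
    (c₁ : Corr n B R n' B' R' P P') (c₂ : Corr n B R n' B' R' U U') : Corr n B R n' B' R' (P ⊔ U) (P' ⊔ U') := by
  obtain ⟨Γ₁, a1, b1, i1, e1, r1⟩ := c₁
  obtain ⟨Γ₂, a2, b2, i2, e2, r2⟩ := c₂
  have f1 : ∀ p ∈ Γ₁, p.1 ∈ P ∧ p.2 ∈ P' := fun p hp =>
    ⟨a1.le (Submodule.mem_map_of_mem (f := LinearMap.fst F V V') hp),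
      b1.le (Submodule.mem_map_of_mem (f := LinearMap.snd F V V') hp)⟩
  have f2 : ∀ p ∈ Γ₂, p.1 ∈ U ∧ p.2 ∈ U' := fun p hp =>
    ⟨a2.le (Submodule.mem_map_of_mem (f := LinearMap.fst F V V') hp),
      b2.le (Submodule.mem_map_of_mem (f := LinearMap.snd F V V') hp)⟩
  have hpow : ∀ {W : Submodule F V}, (∀ x ∈ W, n x ∈ W) → ∀ a x, x ∈ W → (n ^ a) x ∈ W := fun hW a => by
    induction a with
    | zero => intro x hx; rwa [pow_zero_apply]
    | succ a ih => intro x hx; rw [pow_succ', Module.End.mul_apply]; exact hW _ (ih x hx)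
  have hpow' : ∀ {W : Submodule F V'}, (∀ x ∈ W, n' x ∈ W) → ∀ a x, x ∈ W → (n' ^ a) x ∈ W := fun hW a => by
    induction a with
    | zero => intro x hx; rwa [pow_zero_apply]
    | succ a ih => intro x hx; rw [pow_succ', Module.End.mul_apply]; exact hW _ (ih x hx)
  refine ⟨Γ₁ ⊔ Γ₂, by rw [Submodule.map_sup, a1, a2], by rw [Submodule.map_sup, b1, b2], fun p hp => ?_,
    fun p hp q hq => ?_, fun p hp => ?_⟩
  · obtain ⟨p₁, hp₁, p₂, hp₂, rfl⟩ := Submodule.mem_sup.1 hp
    simpa only [Prod.fst_add, Prod.snd_add, map_add, Prod.mk_add_mk] using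
      Submodule.add_mem_sup (i1 _ hp₁) (i2 _ hp₂)
  · obtain ⟨p₁, hp₁, p₂, hp₂, rfl⟩ := Submodule.mem_sup.1 hp
    obtain ⟨q₁, hq₁, q₂, hq₂, rfl⟩ := Submodule.mem_sup.1 hq
    simp only [Prod.fst_add, Prod.snd_add, map_add, LinearMap.add_apply, e1 _ hp₁ _ hq₁, e2 _ hp₂ _ hq₂,
      hU (f2 _ hq₂).1 _ (f1 _ hp₁).1, hU' (f2 _ hq₂).2 _ (f1 _ hp₁).2, h.symm q₁.1 p₂.1, h'.symm q₁.2 p₂.2,
      hU (f2 _ hp₂).1 _ (f1 _ hq₁).1, hU' (f2 _ hp₂).2 _ (f1 _ hq₁).2]
  · obtain ⟨p₁, hp₁, p₂, hp₂, rfl⟩ := Submodule.mem_sup.1 hp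
    rw [Prod.snd_add, Prod.fst_add, h.radd, h'.radd, r1 _ hp₁, r2 _ hp₂,
      hU (hpow hUinv s _ (f2 _ hp₂).1) _ (hpow hPinv s _ (f1 _ hp₁).1),
      hU' (hpow' hUinv' s _ (f2 _ hp₂).2) _ (hpow' hPinv' s _ (f1 _ hp₁).2)]

/-- Equivariant isometry. -/
def Eqv (n : Module.End F V) (B : LinearMap.BilinForm F V) (R : V → F) (n' : Module.End F V')
    (B' : LinearMap.BilinForm F V') (R' : V' → F) : Prop :=
  ∃ θ : V ≃ₗ[F] V', (∀ x, θ (n x) = n' (θ x)) ∧ (∀ x y, B' (θ x) (θ y) = B x y) ∧ ∀ x, R' (θ x) = R x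

theorem eqv_of_corr (h : IsSys s n B R) (h' : IsSys s n' B' R') (c : Corr n B R n' B' R' ⊤ ⊤) :
    Eqv n B R n' B' R' := by
  obtain ⟨Γ, a, b, hi, he, hr⟩ := c
  have h1 : Function.Injective ((LinearMap.fst F V V').domRestrict Γ) :=
    LinearMap.ker_eq_bot.1 (LinearMap.ker_eq_bot'.2 fun p hp => Subtype.ext (Prod.ext hp (h'.sep _ fun y => by
      obtain ⟨q, hq, rfl⟩ := Submodule.mem_map.1 (b.ge (Submodule.mem_top (x := y)))
      have hp0 : p.1.1 = 0 := hp
      rw [LinearMap.snd_apply, he _ p.2 _ hq, hp0, map_zero, LinearMap.zero_apply])))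
  have h2 : Function.Injective ((LinearMap.snd F V V').domRestrict Γ) :=
    LinearMap.ker_eq_bot.1 (LinearMap.ker_eq_bot'.2 fun p hp => Subtype.ext (Prod.ext (h.sep _ fun y => by
      obtain ⟨q, hq, rfl⟩ := Submodule.mem_map.1 (a.ge (Submodule.mem_top (x := y)))
      have hp0 : p.1.2 = 0 := hp
      rw [LinearMap.fst_apply, ← he _ p.2 _ hq, hp0, map_zero, LinearMap.zero_apply]) hp))
  let e₁ := LinearEquiv.ofBijective ((LinearMap.fst F V V').domRestrict Γ) ⟨h1, fun x => by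
    obtain ⟨p, hp, hpx⟩ := Submodule.mem_map.1 (a.ge (Submodule.mem_top (x := x)))
    exact ⟨⟨p, hp⟩, hpx⟩⟩
  let e₂ := LinearEquiv.ofBijective ((LinearMap.snd F V V').domRestrict Γ) ⟨h2, fun x => by
    obtain ⟨p, hp, hpx⟩ := Submodule.mem_map.1 (b.ge (Submodule.mem_top (x := x)))
    exact ⟨⟨p, hp⟩, hpx⟩⟩
  have key : ∀ p : Γ, e₁.symm.trans e₂ p.1.1 = p.1.2 := fun p => by
    rw [LinearEquiv.trans_apply, show p.1.1 = e₁ p from rfl, e₁.symm_apply_apply]; rfl
  have hall : ∀ x, ∃ p : Γ, p.1.1 = x := fun x => ⟨e₁.symm x, e₁.apply_symm_apply x⟩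
  refine ⟨e₁.symm.trans e₂, fun x => ?_, fun x y => ?_, fun x => ?_⟩
  · obtain ⟨p, rfl⟩ := hall x
    rw [key, key ⟨_, hi _ p.2⟩]
  · obtain ⟨p, rfl⟩ := hall x
    obtain ⟨q, rfl⟩ := hall y
    rw [key, key, he _ p.2 _ q.2]
  · obtain ⟨p, rfl⟩ := hall x
    rw [key, hr _ p.2]

end Cfsg.Lib.Linear.UniTwo
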