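import Cfsg.Agent.Lib.Linear.UniTwo.Normal

/-!
# Normal forms of unipotent isometries in characteristic two

Every system is an orthogonal sum of the pieces of a word from `words`, and the word determines the system.
-/

set_option autoImplicit false

universe u v w

namespace Cfsg.Lib.Linear.UniTwo

/-- The pieces: a pair of exponent `m` or a vector of exponent `2 k`, each in two types. -/
inductive Word where
  | pair (m : ℕ) (α : Bool)
  | cyc (k : ℕ) (α : Bool)

/-- Prepend a piece. -/
def pre (p : Word) (L : List (List Word)) : List (List Word) := L.map (List.cons p)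

/-- The last single vector, given the words below according to their state. -/
def oneCyc (s k : ℕ) (Lt Lf : List (List Word)) : List (List Word) :=
  pre (.cyc k false) Lt ++ pre (.cyc k false) Lf ++ if s < k then pre (.cyc k true) Lf else []

/-- The words of exponent at most `m` in dimension `2 h` and state `o`. -/
def words (s : ℕ) : ℕ → ℕ → Bool → List (List Word)
  | 0, h, o => if h = 0 ∧ o = false then [[]] else []
  | m + 1, h, o =>
    let rec' := if _hm : m + 1 ≤ h then pre (.pair (m + 1) false) (words s (m + 1) (h - (m + 1)) o) else []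
    if (m + 1) % 2 = 1 then
      if (m + 1) / 2 < s then (if o then [] else words s m h false ++ rec')
      else if o then
        words s m h true ++ rec' ++
          (if m + 1 ≤ h then
            pre (.pair (m + 1) false) (words s m (h - (m + 1)) false) ++
              pre (.pair (m + 1) true) (words s m (h - (m + 1)) false)
          else [])
      else words s m h false
    else
      if o then
        rec' ++
          (if (m + 1) / 2 ≤ h then
            oneCyc s ((m + 1) / 2) (words s m (h - (m + 1) / 2) true) (words s m (h - (m + 1) / 2) false)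
          else []) ++
          (if 2 * ((m + 1) / 2) ≤ h then
            pre (.cyc ((m + 1) / 2) false) (oneCyc s ((m + 1) / 2) (words s m (h - 2 * ((m + 1) / 2)) true)
              (words s m (h - 2 * ((m + 1) / 2)) false))
          else [])
      else words s m h false ++ words s m h true ++ rec'
  termination_by m h _ => (m, h)

theorem mem_pre {p : Word} {w : List Word} {L : List (List Word)} (h : w ∈ L) : p :: w ∈ pre p L :=
  List.mem_map_of_mem h

section

variable {F : Type u} [Field F] [CharP F 2]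
variable {V : Type v} [AddCommGroup V] [Module F V]
variable {s : ℕ} {n : Module.End F V} {B : LinearMap.BilinForm F V} {R : V → F}

/-- A normal piece; `a` represents the non-trivial class modulo `c ^ 2 + c`. -/
def Piece (s : ℕ) (n : Module.End F V) (B : LinearMap.BilinForm F V) (R : V → F) (a : F) :
    Word → Submodule F V → Prop
  | .pair m α, P => ∃ x y, Pair s n B R ⊤ m x y ∧ (∀ d, d + 1 < m → B ((n ^ d) x) y = 0) ∧
      (∀ j, s ≤ j → qf s n R j x = (if α = true ∧ 2 * j + 1 = m then 1 else 0) ∧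
        qf s n R j y = (if α = true ∧ 2 * j + 1 = m then a else 0)) ∧ P = gens n m ![x, y]
  | .cyc k α, P => ∃ x, Cyc s n R ⊤ k x ∧
      (∀ j, s ≤ j → qf s n R j x = if j = k then 1 else if α = true ∧ j + 1 = k then a else 0) ∧
      P = gens n (2 * k) ![x]

theorem piece_inv {a : F} {p : Word} {P : Submodule F V} (hp : Piece s n B R a p P) : ∀ x ∈ P, n x ∈ P := by
  rcases p with ⟨m, α⟩ | ⟨k, α⟩
  · obtain ⟨x, y, hxy, -, -, rfl⟩ := hp
    exact gens_inv fun i => by fin_cases i <;> simp [hxy.kx, hxy.ky]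
  · obtain ⟨x, hx, -, rfl⟩ := hp
    exact gens_inv fun i => by fin_cases i; simp [hx.killed]

variable {V' : Type w} [AddCommGroup V'] [Module F V']
variable {n' : Module.End F V'} {B' : LinearMap.BilinForm F V'} {R' : V' → F}

omit [CharP F 2] in
theorem R_pow (j : ℕ) (x : V) : R ((n ^ j) x) = qf s n R (j + s) x := by rw [qf, Nat.add_sub_cancel]

theorem piece_corr (h : IsSys s n B R) (h' : IsSys s n' B' R') {a : F} {p : Word} {P : Submodule F V}
    {P' : Submodule F V'} (hp : Piece s n B R a p P) (hp' : Piece s n' B' R' a p P') :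
    Corr n B R n' B' R' P P' := by
  rcases p with ⟨m, α⟩ | ⟨k, α⟩
  · obtain ⟨x, y, q, hd, hq, rfl⟩ := hp
    obtain ⟨x', y', q', hd', hq', rfl⟩ := hp'
    have hxy : ∀ a b, B ((n ^ a) x) ((n ^ b) y) = B' ((n' ^ a) x') ((n' ^ b) y') := by
      refine gram_eq h h' q.kx q'.kx fun T => ⟨T, 0, by omega, ?_⟩
      rw [pow_zero_apply, pow_zero_apply]
      rcases lt_trichotomy (T + 1) m with h1 | h1 | h1
      · rw [hd T h1, hd' T h1]
      · rw [show T = m - 1 by omega, q.one, q'.one]
      · rw [pow_eq_zero_le q.kx (by omega), pow_eq_zero_le q'.kx (by omega), map_zero, map_zero, LinearMap.zero_apply,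
          LinearMap.zero_apply]
    have hx := gram_self h h' q.kx q'.kx fun j hj => by rw [(hq j hj).1, (hq' j hj).1]
    have hy := gram_self h h' q.ky q'.ky fun j hj => by rw [(hq j hj).2, (hq' j hj).2]
    refine corr_gens h h' (fun i => by fin_cases i <;> simp [q.kx, q.ky])
      (fun i => by fin_cases i <;> simp [q'.kx, q'.ky]) (fun i j a b => ?_) (fun i b => ?_)
    · fin_cases i <;> fin_cases j
      · exact hx a b
      · exact hxy a b
      · exact (h.symm _ _).trans ((hxy b a).trans (h'.symm _ _).symm)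
      · exact hy a b
    · fin_cases i
      · simp [R_pow (s := s), (hq (b + s) (by omega)).1, (hq' (b + s) (by omega)).1]
      · simp [R_pow (s := s), (hq (b + s) (by omega)).2, (hq' (b + s) (by omega)).2]
  · obtain ⟨x, q, hq, rfl⟩ := hp
    obtain ⟨x', q', hq', rfl⟩ := hp'
    have hx := gram_self h h' q.killed q'.killed fun j hj => by rw [hq j hj, hq' j hj]
    refine corr_gens h h' (fun i => by fin_cases i; simp [q.killed]) (fun i => by fin_cases i; simp [q'.killed])
      (fun i j a b => by fin_cases i; fin_cases j; exact hx a b) (fun i b => ?_)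
    fin_cases i
    simp [R_pow (s := s), hq (b + s) (by omega), hq' (b + s) (by omega)]

/-- `U` is the orthogonal sum of pieces of the types in the word. -/
def Real (s : ℕ) (n : Module.End F V) (B : LinearMap.BilinForm F V) (R : V → F) (a : F) :
    List Word → Submodule F V → Prop
  | [], U => U = ⊥
  | p :: w, U => ∃ P, Piece s n B R a p P ∧ P ≤ U ∧ U ≤ P ⊔ (U ⊓ perp B P) ∧ Sub n B (U ⊓ perp B P) ∧
      Real s n B R a w (U ⊓ perp B P)

theorem real_corr (h : IsSys s n B R) (h' : IsSys s n' B' R') {a : F} : ∀ (w : List Word) {U : Submodule F V}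
    {U' : Submodule F V'}, Real s n B R a w U → Real s n' B' R' a w U' → Corr n B R n' B' R' U U'
  | [], U, U', hU, hU' => by
    rw [Real] at hU hU'
    subst hU hU'
    exact corr_bot h h'
  | p :: w, U, U', hU, hU' => by
    obtain ⟨P, hp, hle, hdec, hs, hr⟩ := hU
    obtain ⟨P', hp', hle', hdec', hs', hr'⟩ := hU'
    rw [← le_antisymm (sup_le hle inf_le_left) hdec, ← le_antisymm (sup_le hle' inf_le_left) hdec']
    exact corr_sup h h' inf_le_right inf_le_right (piece_inv hp) (piece_inv hp') hs.inv hs'.inv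
      (piece_corr h h' hp hp') (real_corr h h' w hr hr')

/-- Equal words give equivalent systems. -/
theorem eqv_of_real (h : IsSys s n B R) (h' : IsSys s n' B' R') {a : F} {w : List Word}
    (hw : Real s n B R a w ⊤) (hw' : Real s n' B' R' a w ⊤) : Eqv n B R n' B' R' :=
  eqv_of_corr h h' (real_corr h h' w hw hw')

/-- Some value at level `m / 2` is non-zero. -/
def St (s : ℕ) (n : Module.End F V) (R : V → F) (m : ℕ) (U : Submodule F V) : Prop :=
  s ≤ m / 2 ∧ ∃ x ∈ U, qf s n R (m / 2) x ≠ 0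

variable {U : Submodule F V}

theorem qf_add_even (h : IsSys s n B R) {k : ℕ} (hk : s ≤ k) {x : V} (hx : (n ^ (2 * k)) x = 0) (y : V) :
    qf s n R k (x + y) = qf s n R k x + qf s n R k y := by
  rw [h.qf_add hk, h.mul_zero_left k k (pow_eq_zero_le hx (by omega)), add_zero]

theorem qf_gens_zero (h : IsSys s n B R) {k : ℕ} (hk : s ≤ k) {r : ℕ} {v : Fin r → V}
    (hz : ∀ i, (n ^ (2 * k)) (v i) = 0) (hq : ∀ i, qf s n R k (v i) = 0) :
    ∀ x ∈ gens n (2 * k) v, qf s n R k x = 0 := fun x hx => by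
  induction hx using Submodule.span_induction with
  | mem x hx =>
    obtain ⟨p, rfl⟩ := hx
    rw [gen, h.qf_pow hk]
    rcases Nat.eq_zero_or_pos (p.2 : ℕ) with h0 | h0
    · rw [h0, Nat.add_zero]; exact hq _
    · exact h.qf_high (hz _) (by omega)
  | zero => exact h.qf_zero k
  | add x y hx _ h1 h2 => rw [qf_add_even h hk (gens_killed hz x hx), h1, h2, add_zero]
  | smul c x _ h1 => rw [h.qf_smul, h1, mul_zero]

section Exists

variable [FiniteDimensional F V] [Finite F]

/-- The complement of a normal piece. -/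
theorem split_pair (h : IsSys s n B R) {m : ℕ} {x y : V} (hU : Sub n B U) (p : Pair s n B R U m x y) :
    gens n m ![x, y] ≤ U ∧ U ≤ gens n m ![x, y] ⊔ (U ⊓ perp B (gens n m ![x, y])) ∧
      Sub n B (U ⊓ perp B (gens n m ![x, y])) ∧
      Module.finrank F ↥(U ⊓ perp B (gens n m ![x, y])) + 2 * m = Module.finrank F U :=
  split_sub h hU (fun i => by fin_cases i <;> simp [p.kx, p.ky])
    (fun c hc => by
      have h0 := hc 0
      have h1 := hc 1
      simp only [Fin.sum_univ_two, Matrix.cons_val_zero, Matrix.cons_val_one, p.selfx h, p.selfy h, p.one, p.one' h,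
        mul_zero, mul_one, zero_add, add_zero] at h0 h1
      funext i
      fin_cases i
      exacts [h1, h0])
    (fun i => by fin_cases i <;> simp [p.memx, p.memy])

theorem split_cyc (h : IsSys s n B R) {k : ℕ} {x : V} (hU : Sub n B U) (p : Cyc s n R U k x) :
    gens n (2 * k) ![x] ≤ U ∧ U ≤ gens n (2 * k) ![x] ⊔ (U ⊓ perp B (gens n (2 * k) ![x])) ∧
      Sub n B (U ⊓ perp B (gens n (2 * k) ![x])) ∧
      Module.finrank F ↥(U ⊓ perp B (gens n (2 * k) ![x])) + 1 * (2 * k) = Module.finrank F U :=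
  split_sub h hU (fun i => by fin_cases i; simp [p.killed])
    (fun c hc => by
      have h0 := hc 0
      simp only [Fin.sum_univ_one, Matrix.cons_val_zero, p.self h, mul_one] at h0
      funext i
      fin_cases i
      exact h0)
    (fun i => by fin_cases i; simp [p.mem])

omit [Finite F] in
theorem pair_top {m : ℕ} {x y : V} (p : Pair s n B R U m x y) : Pair s n B R (⊤ : Submodule F V) m x y :=
  { p with memx := trivial, memy := trivial }

theorem perp_orth {r m : ℕ} {v : Fin r → V} (hz : ∀ i, (n ^ m) (v i) = 0) {u : V}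
    (hinv : ∀ b, (n ^ b) u ∈ perp B (gens n m v)) (i : Fin r) (a b : ℕ) : B ((n ^ a) (v i)) ((n ^ b) u) = 0 :=
  hinv b _ (pow_mem_gens hz a i)

/-- A partner with top pairing one. -/
theorem exists_one {m : ℕ} (hU : Sub n B U) {u : V} (hu : u ∈ U) (hne : (n ^ m) u ≠ 0) :
    ∃ y ∈ U, B ((n ^ m) u) y = 1 := by
  obtain ⟨y, hy, hy1⟩ : ∃ y ∈ U, B ((n ^ m) u) y ≠ 0 := by
    by_contra hall
    push Not at hall
    exact hne (hU.sep _ (hU.pow_mem hu m) hall)
  exact ⟨(B ((n ^ m) u) y)⁻¹ • y, U.smul_mem _ hy, by rw [map_smul, smul_eq_mul, inv_mul_cancel₀ hy1]⟩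

/-- A subspace without values at level `k` is killed by `n ^ (2 k)`. -/
theorem killed_of_not_st_odd (h : IsSys s n B R) {k : ℕ} (hk : s ≤ k) (hU : Sub n B U)
    (hkill : ∀ x ∈ U, (n ^ (2 * k + 1)) x = 0) (hst : ¬ St s n R (2 * k + 1) U) :
    ∀ x ∈ U, (n ^ (2 * k)) x = 0 := by
  rw [St, show (2 * k + 1) / 2 = k by omega] at hst
  have hq : ∀ x ∈ U, qf s n R k x = 0 := fun x hx => by_contra fun hne => hst ⟨hk, x, hx, hne⟩
  intro x hx
  refine hU.sep _ (hU.pow_mem hx _) fun y hy => ?_
  have h1 := h.qf_add hk x y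
  rw [hq x hx, hq y hy, hq _ (add_mem hx hy), h.top k k (pow_eq_zero_le (hkill x hx) (by omega)), zero_add,
    zero_add] at h1
  rw [two_mul]
  exact h1.symm

/-- No pair with top pairing one. -/
def NoPair (s : ℕ) (n : Module.End F V) (B : LinearMap.BilinForm F V) (R : V → F) (U : Submodule F V) (k : ℕ) : Prop :=
  ∀ x y, ¬ Pair s n B R U (2 * k) x y

omit [CharP F 2] [FiniteDimensional F V] [Finite F] in
theorem NoPair.mono {U' : Submodule F V} {k : ℕ} (hle : U' ≤ U) (hn : NoPair s n B R U k) : NoPair s n B R U' k :=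
  fun x y p => hn x y { p with memx := hle p.memx, memy := hle p.memy }

theorem killed_of_not_st_even (h : IsSys s n B R) {k : ℕ} (hk : 1 ≤ k) (hU : Sub n B U)
    (hkill : ∀ x ∈ U, (n ^ (2 * k)) x = 0) (hno : NoPair s n B R U k) (hst : ¬ St s n R (2 * k) U) :
    ∀ x ∈ U, (n ^ (2 * k - 1)) x = 0 := by
  rw [St, show 2 * k / 2 = k by omega] at hst
  intro x hx
  by_contra hne
  obtain ⟨y, hy, hy1⟩ := exists_one hU hx hne
  refine hno x y ⟨by omega, hx, hy, hkill x hx, hkill y hy, hy1, fun k' hk' => ?_⟩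
  obtain rfl : k' = k := by omega
  have := h.le
  exact ⟨by_contra fun h1 => hst ⟨by omega, x, hx, h1⟩, by_contra fun h1 => hst ⟨by omega, y, hy, h1⟩⟩

theorem exists_cyc (h : IsSys s n B R) {k : ℕ} (hk : 1 ≤ k) (hkill : ∀ x ∈ U, (n ^ (2 * k)) x = 0)
    (hst : St s n R (2 * k) U) : ∃ v, Cyc s n R U k v := by
  rw [St, show 2 * k / 2 = k by omega] at hst
  obtain ⟨-, x, hx, hne⟩ := hst
  obtain ⟨c, hc⟩ := exists_sqrt (qf s n R k x)⁻¹
  exact ⟨c • x, hk, U.smul_mem _ hx, hkill _ (U.smul_mem _ hx), by rw [h.qf_smul, hc, inv_mul_cancel₀ hne]⟩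

/-- A vector with a value next to the top in the complement removes that value. -/
theorem absorb_perp (h : IsSys s n B R) {k : ℕ} (hk : s + 1 ≤ k) {v : V} (q : Cyc s n R U k v) (hU : Sub n B U) {y : V}
    (hy : y ∈ U ⊓ perp B (gens n (2 * k) ![v])) (hky : (n ^ (2 * k - 1)) y = 0)
    (hne : qf s n R (k - 1) y ≠ 0) : ∃ x, Cyc s n R U k x ∧ qf s n R (k - 1) x = 0 ∧
      ∀ j, s ≤ j → qf s n R j x = if j = k then 1 else 0 := by
  obtain ⟨-, -, hs, -⟩ := split_cyc h hU q
  obtain ⟨x₁, q₁, h1⟩ := q.absorb h hk hy.1 hky (fun a => perp_orth (v := ![v]) (fun i => by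
    fin_cases i; simp [q.killed]) (fun b => (hs.pow_mem hy b).2) 0 a a) hne
  obtain ⟨x₂, q₂, h2, h3⟩ := q₁.lower h hU
  refine ⟨x₂, q₂, by rw [h3 _ (by omega) (by omega), h1], fun j hj => ?_⟩
  rcases lt_trichotomy j k with h4 | h4 | h4
  · rw [if_neg h4.ne]
    rcases Nat.lt_or_ge (j + 1) k with h5 | h5
    · exact h2 j hj h5
    · rw [h3 j hj (by omega), show j = k - 1 by omega, h1]
  · rw [if_pos h4, h4, q₂.one]
  · rw [if_neg h4.ne', q₂.high h h4]

/-- Reduce the value next to the top. -/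
theorem exists_normal_cyc (h : IsSys s n B R) {a : F} (ha : a ∉ (artin F).range) {k : ℕ} {v : V}
    (q : Cyc s n R U k v) (hU : Sub n B U) : ∃ x α, Cyc s n R U k x ∧ (α = true → s < k) ∧
      ∀ j, s ≤ j → qf s n R j x = if j = k then 1 else if α = true ∧ j + 1 = k then a else 0 := by
  obtain ⟨x₁, α, q₁, hα, h1⟩ : ∃ x₁ α, Cyc s n R U k x₁ ∧ (α = true → s < k) ∧
      ∀ j, s ≤ j → j + 1 = k → qf s n R j x₁ = if α = true then a else 0 := by
    by_cases hk : s + 1 ≤ k
    swap
    · exact ⟨v, false, q, by simp, fun j h1 h2 => absurd h2 (by omega)⟩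
    rcases artin_cases ha (qf s n R (k - 1) v) with ⟨c, hc⟩ | ⟨c, hc⟩
    · obtain ⟨x₁, q₁, h1⟩ := q.adjust h hU hk c
      refine ⟨x₁, false, q₁, by simp, fun j _ h3 => ?_⟩
      rw [show j = k - 1 by omega, h1, ← artin_apply, hc, CharTwo.add_self_eq_zero, if_neg (by simp)]
    · obtain ⟨x₁, q₁, h1⟩ := q.adjust h hU hk c
      refine ⟨x₁, true, q₁, fun _ => hk, fun j _ h3 => ?_⟩
      rw [show j = k - 1 by omega, h1, ← artin_apply, hc, ← add_assoc, CharTwo.add_self_eq_zero, zero_add, if_pos rfl]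
  obtain ⟨x₂, q₂, h2, h3⟩ := q₁.lower h hU
  refine ⟨x₂, α, q₂, hα, fun j hj => ?_⟩
  rcases lt_trichotomy j k with h4 | h4 | h4
  · rw [if_neg h4.ne]
    rcases Nat.lt_or_ge (j + 1) k with h5 | h5
    · rw [h2 j hj h5, if_neg (by rintro ⟨-, h6⟩; omega)]
    · rw [h3 j hj (by omega), h1 j hj (by omega)]
      exact if_congr ⟨fun e => ⟨e, by omega⟩, fun e => e.1⟩ rfl rfl
  · rw [if_pos h4, h4, q₂.one]
  · rw [if_neg h4.ne', q₂.high h h4, if_neg (by rintro ⟨-, h6⟩; omega)]

theorem piece_cyc {a : F} {k : ℕ} {x : V} (α : Bool) (q : Cyc s n R U k x)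
    (hq : ∀ j, s ≤ j → qf s n R j x = if j = k then 1 else if α = true ∧ j + 1 = k then a else 0) :
    Piece s n B R a (.cyc k α) (gens n (2 * k) ![x]) :=
  ⟨x, { q with mem := trivial }, hq, rfl⟩

theorem piece_pair (h : IsSys s n B R) {a : F} {m : ℕ} {x y : V} (hU : Sub n B U) (α : Bool)
    (p : Pair s n B R U m x y)
    (htop : ∀ j, s ≤ j → 2 * j + 1 = m → qf s n R j x = (if α = true then 1 else 0) ∧
      qf s n R j y = (if α = true then a else 0)) :
    ∃ P, Piece s n B R a (.pair m α) P ∧ P ≤ U ∧ U ≤ P ⊔ (U ⊓ perp B P) ∧ Sub n B (U ⊓ perp B P) ∧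
      Module.finrank F ↥(U ⊓ perp B P) + 2 * m = Module.finrank F U ∧
      ∀ k, m = 2 * k → ∀ z ∈ P, qf s n R k z = 0 := by
  obtain ⟨u, w, q, hd, hq, ht⟩ := p.lower h hU
  obtain ⟨h1, h2, h3, h4⟩ := split_pair h hU q
  refine ⟨_, ⟨u, w, pair_top q, hd, fun j hj => ?_, rfl⟩, h1, h2, h3, h4, fun k hk => ?_⟩
  · rcases lt_trichotomy (2 * j + 1) m with h5 | h5 | h5
    · rw [if_neg (fun e => h5.ne e.2), if_neg (fun e => h5.ne e.2)]; exact hq j hj h5
    · obtain ⟨e1, e2⟩ := ht j hj h5
      obtain ⟨e3, e4⟩ := htop j hj h5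
      rw [e1, e2, e3, e4]
      exact ⟨if_congr ⟨fun e => ⟨e, h5⟩, fun e => e.1⟩ rfl rfl, if_congr ⟨fun e => ⟨e, h5⟩, fun e => e.1⟩ rfl rfl⟩
    · rw [if_neg (fun e => h5.ne' e.2), if_neg (fun e => h5.ne' e.2)]
      exact q.high h j (by omega)
  · subst hk
    have := p.pos
    have := h.le
    exact qf_gens_zero h (by omega) (fun i => by fin_cases i <;> simp [q.kx, q.ky])
      fun i => by fin_cases i <;> simp [q.high h k le_rfl]

/-- Words of a subspace without two orthogonal top vectors. -/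
theorem exists_single (h : IsSys s n B R) {a : F} (ha : a ∉ (artin F).range) {k hd : ℕ} (hk : 1 ≤ k)
    (hU : Sub n B U) (hfr : Module.finrank F U = 2 * hd) (hkill : ∀ x ∈ U, (n ^ (2 * k)) x = 0)
    (hst : St s n R (2 * k) U) (hno : NoPair s n B R U k)
    (hsingle : ∀ v, Cyc s n R U k v → ¬ St s n R (2 * k) (U ⊓ perp B (gens n (2 * k) ![v])))
    (IH : ∀ (h₀ : ℕ) (U₀ : Submodule F V), Sub n B U₀ → Module.finrank F U₀ = 2 * h₀ →
      (∀ x ∈ U₀, (n ^ (2 * k - 1)) x = 0) → ∀ o : Bool, (o = true ↔ St s n R (2 * k - 1) U₀) →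
        ∃ w ∈ words s (2 * k - 1) h₀ o, Real s n B R a w U₀) :
    k ≤ hd ∧ ∃ w ∈ oneCyc s k (words s (2 * k - 1) (hd - k) true) (words s (2 * k - 1) (hd - k) false),
      Real s n B R a w U := by
  classical
  obtain ⟨v, q⟩ := exists_cyc h hk hkill hst
  obtain ⟨x, α, q, hα, hx⟩ := exists_normal_cyc h ha q hU
  have finish : ∀ x α, Cyc s n R U k x →
      (∀ j, s ≤ j → qf s n R j x = if j = k then 1 else if α = true ∧ j + 1 = k then a else 0) →
      (α = true → s < k ∧ ¬ St s n R (2 * k - 1) (U ⊓ perp B (gens n (2 * k) ![x]))) →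
      k ≤ hd ∧ ∃ w ∈ oneCyc s k (words s (2 * k - 1) (hd - k) true) (words s (2 * k - 1) (hd - k) false),
        Real s n B R a w U := fun x α q hx hα => by
    obtain ⟨h1, h2, h3, h4⟩ := split_cyc h hU q
    obtain ⟨o, ho⟩ : ∃ o : Bool, o = true ↔ St s n R (2 * k - 1) (U ⊓ perp B (gens n (2 * k) ![x])) :=
      ⟨decide _, decide_eq_true_iff⟩
    obtain ⟨w, hw, hr⟩ := IH (hd - k) _ h3 (by omega) (killed_of_not_st_even h hk h3 (fun z hz => hkill z hz.1)
      (hno.mono inf_le_left) (hsingle x q)) o ho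
    refine ⟨by omega, .cyc k α :: w, ?_, _, piece_cyc α q hx, h1, h2, h3, hr⟩
    cases α with
    | false => cases o with
      | true => exact List.mem_append_left _ (List.mem_append_left _ (mem_pre hw))
      | false => exact List.mem_append_left _ (List.mem_append_right _ (mem_pre hw))
    | true =>
      obtain ⟨hsk, hns⟩ := hα rfl
      cases o with
      | true => exact absurd (ho.1 rfl) hns
      | false => exact List.mem_append_right _ (by rw [if_pos hsk]; exact mem_pre hw)
  by_cases hlow : α = true ∧ St s n R (2 * k - 1) (U ⊓ perp B (gens n (2 * k) ![x]))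
  · obtain ⟨-, hsk, y, hy, hne⟩ := hlow
    rw [show (2 * k - 1) / 2 = k - 1 by omega] at hsk hne
    obtain ⟨-, -, hs3, -⟩ := split_cyc h hU q
    obtain ⟨x', q', -, hx'⟩ := absorb_perp h (by omega) q hU hy
      (killed_of_not_st_even h hk hs3 (fun z hz => hkill z hz.1) (hno.mono inf_le_left) (hsingle x q) y hy) hne
    exact finish x' false q' (fun j hj => by rw [hx' j hj]; simp) (by simp)
  · exact finish x α q hx fun e => ⟨hα e, fun hs => hlow ⟨e, hs⟩⟩

theorem exists_word_odd (h : IsSys s n B R) {a : F} (ha : a ∉ (artin F).range) {k hd : ℕ} (hU : Sub n B U)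
    (hfr : Module.finrank F U = 2 * hd) (hkill : ∀ x ∈ U, (n ^ (2 * k + 1)) x = 0) (o : Bool)
    (ho : o = true ↔ St s n R (2 * k + 1) U)
    (IHm : ∀ (h₀ : ℕ) (U₀ : Submodule F V), Sub n B U₀ → Module.finrank F U₀ = 2 * h₀ →
      (∀ x ∈ U₀, (n ^ (2 * k)) x = 0) → ∀ o : Bool, (o = true ↔ St s n R (2 * k) U₀) →
        ∃ w ∈ words s (2 * k) h₀ o, Real s n B R a w U₀)
    (IHh : ∀ (h₀ : ℕ) (U₀ : Submodule F V), h₀ < hd → Sub n B U₀ → Module.finrank F U₀ = 2 * h₀ →
      (∀ x ∈ U₀, (n ^ (2 * k + 1)) x = 0) → ∀ o : Bool, (o = true ↔ St s n R (2 * k + 1) U₀) →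
        ∃ w ∈ words s (2 * k + 1) h₀ o, Real s n B R a w U₀) :
    ∃ w ∈ words s (2 * k + 1) hd o, Real s n B R a w U := by
  classical
  have hdiv : (2 * k + 1) / 2 = k := by omega
  have hmod : (2 * k + 1) % 2 = 1 := by omega
  have hst_eq : ∀ U₀ : Submodule F V, St s n R (2 * k) U₀ ↔ St s n R (2 * k + 1) U₀ := fun U₀ => by
    rw [St, St, hdiv, show 2 * k / 2 = k by omega]
  by_cases hall : ∀ x ∈ U, (n ^ (2 * k)) x = 0
  · obtain ⟨w, hw, hr⟩ := IHm hd U hU hfr hall o (ho.trans (hst_eq U).symm)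
    refine ⟨w, ?_, hr⟩
    rw [words]
    simp only [hmod, hdiv, if_true]
    cases o with
    | true =>
      have hks := (ho.1 rfl).1
      rw [hdiv] at hks
      rw [if_neg (by omega), if_pos rfl]
      exact List.mem_append_left _ (List.mem_append_left _ hw)
    | false =>
      simp only [Bool.false_eq_true, if_false]
      split_ifs
      all_goals first
        | exact hw
        | exact List.mem_append_left _ hw
  push Not at hall
  obtain ⟨x, hx, hne⟩ := hall
  obtain ⟨y, hy, hy1⟩ := exists_one hU hx hne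
  have p : Pair s n B R U (2 * k + 1) x y :=
    ⟨by omega, hx, hy, hkill x hx, hkill y hy, hy1, fun k' hk' => absurd hk' (by omega)⟩
  rcases Nat.lt_or_ge k s with hks | hks
  · obtain ⟨P, hP, h1, h2, h3, h4, -⟩ := piece_pair h (a := a) hU false p fun j hj hj' => absurd hj (by omega)
    have hns : ∀ U₀ : Submodule F V, ¬ St s n R (2 * k + 1) U₀ := fun U₀ hs => absurd hs.1 (by omega)
    obtain ⟨w, hw, hr⟩ := IHh (hd - (2 * k + 1)) _ (by omega) h3 (by omega) (fun z hz => hkill z hz.1) false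
      (iff_of_false (by simp) (hns _))
    obtain rfl : o = false := Bool.eq_false_iff.2 fun e => hns _ (ho.1 e)
    refine ⟨_ :: w, ?_, P, hP, h1, h2, h3, hr⟩
    rw [words]
    simp only [hmod, hdiv, if_true]
    rw [if_pos hks, if_neg (by simp), dif_pos (by omega)]
    exact List.mem_append_right _ (mem_pre hw)
  have hval : ∀ {u w : V}, Pair s n B R U (2 * k + 1) u w → B ((n ^ k) u) ((n ^ k) w) = 1 := fun {u w} q => by
    rw [q.val h (by omega) (Or.inl rfl) 1 q.one, if_pos (by omega)]
  obtain rfl : o = true := ho.2 ⟨by omega, by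
    rw [hdiv]
    by_contra hall
    push Not at hall
    have h1 := h.qf_add hks x y
    rw [hall x hx, hall y hy, hall _ (add_mem hx hy), hval p, zero_add, zero_add] at h1
    exact zero_ne_one h1⟩
  have goal_of : ∀ (α : Bool) (u w : V), Pair s n B R U (2 * k + 1) u w →
      qf s n R k u = (if α = true then 1 else 0) → qf s n R k w = (if α = true then a else 0) →
      (α = true → ∀ u w, Pair s n B R U (2 * k + 1) u w → qf s n R k u ≠ 0) →
      ∃ w ∈ words s (2 * k + 1) hd true, Real s n B R a w U := fun α u w q hqu hqw hα => by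
    obtain ⟨u', w', q', hd', hq, ht⟩ := q.lower h hU
    obtain ⟨h1, h2, h3, h4⟩ := split_pair h hU q'
    set U₀ := U ⊓ perp B (gens n (2 * k + 1) ![u', w'])
    have hP : Piece s n B R a (.pair (2 * k + 1) α) (gens n (2 * k + 1) ![u', w']) := by
      refine ⟨u', w', pair_top q', hd', fun j hj => ?_, rfl⟩
      rcases lt_trichotomy j k with h5 | h5 | h5
      · rw [if_neg (fun e => by omega), if_neg (fun e => by omega)]; exact hq j hj (by omega)
      · obtain ⟨e1, e2⟩ := ht j hj (by omega)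
        rw [e1, e2, h5, hqu, hqw]
        exact ⟨if_congr ⟨fun e => ⟨e, rfl⟩, fun e => e.1⟩ rfl rfl, if_congr ⟨fun e => ⟨e, rfl⟩, fun e => e.1⟩ rfl rfl⟩
      · rw [if_neg (fun e => by omega), if_neg (fun e => by omega)]
        exact q'.high h j (by omega)
    rw [words]
    simp only [hmod, hdiv, if_true]
    rw [if_neg (by omega), dif_pos (by omega), if_pos (show 2 * k + 1 ≤ hd by omega)]
    by_cases hs : St s n R (2 * k + 1) U₀
    · cases α with
      | true =>
        exfalso
        obtain ⟨-, z, hz, hzne⟩ := hs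
        rw [hdiv] at hzne
        obtain ⟨c, hc⟩ := exists_sqrt (qf s n R k z)⁻¹
        have hz' : ∀ b, (n ^ b) z ∈ perp B (gens n (2 * k + 1) ![u', w']) := fun b => (h3.pow_mem hz b).2
        have hzw : B ((n ^ (2 * k)) z) w' = 0 := by
          rw [h.symm]
          exact hz' (2 * k) w' (Submodule.subset_span ⟨(1, ⟨0, by omega⟩), by simp [gen]⟩)
        refine hα rfl (u' + c • z) w' ⟨q'.pos, add_mem q'.memx (U.smul_mem _ hz.1), q'.memy,
          hkill _ (add_mem q'.memx (U.smul_mem _ hz.1)), q'.ky, ?_, fun k' hk' => absurd hk' (by omega)⟩ ?_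
        · rw [Nat.add_sub_cancel, map_add, map_smul, map_add, LinearMap.add_apply, map_smul, LinearMap.smul_apply,
            hzw, smul_zero, add_zero]
          exact q'.one
        · rw [h.qf_add hks, h.qf_smul, hc, inv_mul_cancel₀ hzne, map_smul, map_smul,
            show B ((n ^ k) u') ((n ^ k) z) = 0 from hz' k _ (pow_mem_gens
              (fun i => by fin_cases i <;> simp [q'.kx, q'.ky]) k (0 : Fin 2)), smul_zero, add_zero,
            (ht k hks rfl).1, hqu, if_pos rfl, CharTwo.add_self_eq_zero]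
      | false =>
        obtain ⟨w₀, hw₀, hr⟩ := IHh (hd - (2 * k + 1)) U₀ (by omega) h3 (by omega) (fun z hz => hkill z hz.1) true
          (iff_of_true rfl hs)
        exact ⟨_ :: w₀, List.mem_append_left _ (List.mem_append_right _ (mem_pre hw₀)), _, hP, h1, h2, h3, hr⟩
    · obtain ⟨w₀, hw₀, hr⟩ := IHm (hd - (2 * k + 1)) U₀ h3 (by omega)
        (killed_of_not_st_odd h hks h3 (fun z hz => hkill z hz.1) hs) false
        (iff_of_false (by simp) fun e => hs ((hst_eq U₀).1 e))
      refine ⟨_ :: w₀, List.mem_append_right _ ?_, _, hP, h1, h2, h3, hr⟩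
      cases α with
      | true => exact List.mem_append_right _ (mem_pre hw₀)
      | false => exact List.mem_append_left _ (mem_pre hw₀)
  have hswap : ∀ {u w : V}, Pair s n B R U (2 * k + 1) u w → Pair s n B R U (2 * k + 1) w u := fun {u w} q =>
    ⟨q.pos, q.memy, q.memx, q.ky, q.kx, q.one' h, fun k' hk' => absurd hk' (by omega)⟩
  have hmove : ∀ {u w : V} (c : F), Pair s n B R U (2 * k + 1) u w → Pair s n B R U (2 * k + 1) u (w + c • u) ∧
      qf s n R k (w + c • u) = qf s n R k w + c ^ 2 * qf s n R k u + c := fun {u w} c q =>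
    ⟨⟨q.pos, q.memx, add_mem q.memy (U.smul_mem _ q.memx), q.kx, hkill _ (add_mem q.memy (U.smul_mem _ q.memx)),
      by rw [map_add, map_smul, q.selfx h, smul_zero, add_zero, q.one], fun k' hk' => absurd hk' (by omega)⟩,
      by rw [h.qf_add hks, h.qf_smul, map_smul, map_smul, hval (hswap q), smul_eq_mul, mul_one]⟩
  by_cases hiso : ∃ u w, Pair s n B R U (2 * k + 1) u w ∧ qf s n R k u = 0
  · obtain ⟨u, w, q, hu⟩ := hiso
    obtain ⟨q₁, h1⟩ := hmove (qf s n R k w) q
    refine goal_of false u _ q₁ hu ?_ (by simp)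
    rw [h1, hu, mul_zero, add_zero, CharTwo.add_self_eq_zero]
    rfl
  push Not at hiso
  obtain ⟨e, he⟩ := exists_sqrt (qf s n R k x)⁻¹
  have he0 : e ≠ 0 := fun h0 => hiso x y p (by
    rw [h0, zero_pow two_ne_zero] at he
    exact inv_eq_zero.1 he.symm)
  have p₁ : Pair s n B R U (2 * k + 1) (e • x) (e⁻¹ • y) :=
    ⟨by omega, U.smul_mem _ hx, U.smul_mem _ hy, hkill _ (U.smul_mem _ hx), hkill _ (U.smul_mem _ hy),
      by rw [map_smul, map_smul, map_smul, LinearMap.smul_apply, smul_eq_mul, smul_eq_mul, ← mul_assoc,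
        inv_mul_cancel₀ he0, one_mul, p.one], fun k' hk' => absurd hk' (by omega)⟩
  have hu1 : qf s n R k (e • x) = 1 := by rw [h.qf_smul, he, inv_mul_cancel₀ (hiso x y p)]
  rcases artin_cases ha (qf s n R k (e⁻¹ • y)) with ⟨c, hc⟩ | ⟨c, hc⟩
  · obtain ⟨q₁, h1⟩ := hmove c p₁
    exact absurd (by rw [h1, hu1, mul_one, add_assoc, ← artin_apply, hc, CharTwo.add_self_eq_zero])
      (hiso _ _ (hswap q₁))
  · obtain ⟨q₁, h1⟩ := hmove c p₁
    refine goal_of true _ _ q₁ (by rw [hu1]; rfl) ?_ (fun _ => hiso)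
    rw [h1, hu1, mul_one, add_assoc, ← artin_apply, hc, ← add_assoc, CharTwo.add_self_eq_zero, zero_add, if_pos rfl]

theorem exists_word_even (h : IsSys s n B R) {a : F} (ha : a ∉ (artin F).range) {k hd : ℕ} (hk : 1 ≤ k)
    (hU : Sub n B U) (hfr : Module.finrank F U = 2 * hd) (hkill : ∀ x ∈ U, (n ^ (2 * k)) x = 0) (o : Bool)
    (ho : o = true ↔ St s n R (2 * k) U)
    (IHm : ∀ (h₀ : ℕ) (U₀ : Submodule F V), Sub n B U₀ → Module.finrank F U₀ = 2 * h₀ →
      (∀ x ∈ U₀, (n ^ (2 * k - 1)) x = 0) → ∀ o : Bool, (o = true ↔ St s n R (2 * k - 1) U₀) →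
        ∃ w ∈ words s (2 * k - 1) h₀ o, Real s n B R a w U₀)
    (IHh : ∀ (h₀ : ℕ) (U₀ : Submodule F V), h₀ < hd → Sub n B U₀ → Module.finrank F U₀ = 2 * h₀ →
      (∀ x ∈ U₀, (n ^ (2 * k)) x = 0) → ∀ o : Bool, (o = true ↔ St s n R (2 * k) U₀) →
        ∃ w ∈ words s (2 * k) h₀ o, Real s n B R a w U₀) :
    ∃ w ∈ words s (2 * k) hd o, Real s n B R a w U := by
  classical
  have hs1 := h.le
  have hw : words s (2 * k) hd o =
      if o then
        (if 2 * k ≤ hd then pre (.pair (2 * k) false) (words s (2 * k) (hd - 2 * k) o) else []) ++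
          (if k ≤ hd then oneCyc s k (words s (2 * k - 1) (hd - k) true) (words s (2 * k - 1) (hd - k) false)
          else []) ++
          (if 2 * k ≤ hd then
            pre (.cyc k false) (oneCyc s k (words s (2 * k - 1) (hd - 2 * k) true) (words s (2 * k - 1) (hd - 2 * k) false))
          else [])
      else words s (2 * k - 1) hd false ++ words s (2 * k - 1) hd true ++
        (if 2 * k ≤ hd then pre (.pair (2 * k) false) (words s (2 * k) (hd - 2 * k) o) else []) := by
    obtain ⟨j, rfl⟩ : ∃ j, k = j + 1 := ⟨k - 1, by omega⟩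
    conv_lhs => rw [show 2 * (j + 1) = (2 * j + 1) + 1 by omega, words]
    simp only [show (2 * j + 1 + 1) % 2 = 0 by omega, show (2 * j + 1 + 1) / 2 = j + 1 by omega,
      show 2 * (j + 1) - 1 = 2 * j + 1 by omega, zero_ne_one, if_false, dite_eq_ite]
    rfl
  rw [hw]
  have hdiv : 2 * k / 2 = k := by omega
  by_cases hp : ∃ x y, Pair s n B R U (2 * k) x y
  · obtain ⟨x, y, p⟩ := hp
    obtain ⟨P, hP, h1, h2, h3, h4, h5⟩ := piece_pair h (a := a) hU false p fun j _ hj' => absurd hj' (by omega)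
    have hst : St s n R (2 * k) (U ⊓ perp B P) ↔ St s n R (2 * k) U := by
      rw [St, St, hdiv]
      refine and_congr_right fun hsk => ⟨fun ⟨z, hz, hne⟩ => ⟨z, hz.1, hne⟩, fun ⟨z, hz, hne⟩ => ?_⟩
      obtain ⟨u, hu, w, hw, rfl⟩ := Submodule.mem_sup.1 (h2 hz)
      rw [qf_add_even h hsk (hkill u (h1 hu)), h5 k rfl u hu, zero_add] at hne
      exact ⟨w, hw, hne⟩
    obtain ⟨w, hw, hr⟩ := IHh (hd - 2 * k) _ (by omega) h3 (by omega) (fun z hz => hkill z hz.1) o (ho.trans hst.symm)
    refine ⟨_ :: w, ?_, P, hP, h1, h2, h3, hr⟩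
    rw [if_pos (show 2 * k ≤ hd by omega)]
    cases o with
    | true => exact List.mem_append_left _ (List.mem_append_left _ (mem_pre hw))
    | false => exact List.mem_append_right _ (mem_pre hw)
  have hno : NoPair s n B R U k := fun x y p => hp ⟨x, y, p⟩
  cases o with
  | false =>
    have hst : ¬ St s n R (2 * k) U := fun e => by simpa using ho.2 e
    obtain ⟨o, hoo⟩ : ∃ o : Bool, o = true ↔ St s n R (2 * k - 1) U := ⟨decide _, decide_eq_true_iff⟩
    obtain ⟨w, hw, hr⟩ := IHm hd U hU hfr (killed_of_not_st_even h hk hU hkill hno hst) o hoo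
    refine ⟨w, ?_, hr⟩
    rw [if_neg (by simp)]
    cases o with
    | true => exact List.mem_append_left _ (List.mem_append_right _ hw)
    | false => exact List.mem_append_left _ (List.mem_append_left _ hw)
  | true =>
    rw [if_pos rfl]
    have hst : St s n R (2 * k) U := ho.1 rfl
    by_cases htwo : ∃ v, Cyc s n R U k v ∧ St s n R (2 * k) (U ⊓ perp B (gens n (2 * k) ![v]))
    swap
    · push Not at htwo
      obtain ⟨hkd, w, hw, hr⟩ := exists_single h ha hk hU hfr hkill hst hno htwo IHm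
      exact ⟨w, List.mem_append_left _ (List.mem_append_right _ (by rwa [if_pos hkd])), hr⟩
    obtain ⟨v, q, hv⟩ := htwo
    obtain ⟨x, q', hx⟩ : ∃ x, Cyc s n R U k x ∧ ∀ j, s ≤ j → qf s n R j x = if j = k then 1 else 0 := by
      rcases Nat.lt_or_ge s k with hsk | hsk
      · obtain ⟨-, u, hu, hne⟩ := hv
        rw [hdiv] at hne
        obtain ⟨-, -, hs3, -⟩ := split_cyc h hU q
        obtain ⟨x, q', -, hx⟩ := absorb_perp h hsk q hU (hs3.pow_mem hu 1)
          (by rw [pp, show 2 * k - 1 + 1 = 2 * k by omega]; exact hkill u hu.1)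
          (by rw [h.qf_pow (by omega), show k - 1 + 1 = k by omega]; exact hne)
        exact ⟨x, q', hx⟩
      · obtain ⟨x, α, q', hα, hx⟩ := exists_normal_cyc h ha q hU
        refine ⟨x, q', fun j hj => ?_⟩
        rw [hx j hj, if_neg (show ¬ (α = true ∧ j + 1 = k) from fun e => absurd (hα e.1) (by omega))]
    obtain ⟨h1, h2, h3, h4⟩ := split_cyc h hU q'
    have hP := piece_cyc (B := B) (a := a) false q' (fun j hj => by rw [hx j hj]; simp)
    have hkill₀ : ∀ z ∈ U ⊓ perp B (gens n (2 * k) ![x]), (n ^ (2 * k)) z = 0 := fun z hz => hkill z hz.1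
    by_cases hx2 : St s n R (2 * k) (U ⊓ perp B (gens n (2 * k) ![x]))
    · have hsingle : ∀ u, Cyc s n R (U ⊓ perp B (gens n (2 * k) ![x])) k u →
          ¬ St s n R (2 * k) ((U ⊓ perp B (gens n (2 * k) ![x])) ⊓ perp B (gens n (2 * k) ![u])) := fun u qu hs2 => by
        obtain ⟨z, qz⟩ := exists_cyc (U := (U ⊓ perp B (gens n (2 * k) ![x])) ⊓ perp B (gens n (2 * k) ![u]))
          h hk (fun z hz => hkill₀ z hz.1) hs2
        obtain ⟨-, -, h6, -⟩ := split_cyc h h3 qu
        have o1 : ∀ w ∈ U ⊓ perp B (gens n (2 * k) ![x]), B ((n ^ (2 * k - 1)) x) w = 0 := fun w hw =>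
          hw.2 _ (pow_mem_gens (fun i => by fin_cases i; simp [q'.killed]) _ (0 : Fin 1))
        have o2 : B ((n ^ (2 * k - 1)) u) z = 0 :=
          qz.mem.2 _ (pow_mem_gens (v := ![u]) (fun i => by fin_cases i; simp [qu.killed]) _ (0 : Fin 1))
        refine hno (x + u) (u + z) ⟨by omega, add_mem q'.mem qu.mem.1, add_mem qu.mem.1 qz.mem.1.1,
          hkill _ (add_mem q'.mem qu.mem.1), hkill _ (add_mem qu.mem.1 qz.mem.1.1), ?_, fun k' hk' => ?_⟩
        · simp only [map_add, LinearMap.add_apply, o1 u qu.mem, o1 z qz.mem.1, qu.self h, o2, zero_add, add_zero]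
        · obtain rfl : k' = k := by omega
          rw [qf_add_even h (q'.le' h) (hkill x q'.mem), qf_add_even h (q'.le' h) (hkill u qu.mem.1), q'.one, qu.one,
            qz.one]
          exact ⟨CharTwo.add_self_eq_zero _, CharTwo.add_self_eq_zero _⟩
      obtain ⟨hkd, w, hw, hr⟩ := exists_single h ha hk h3 (hd := hd - k) (by omega) hkill₀ hx2
        (hno.mono inf_le_left) hsingle IHm
      refine ⟨_ :: w, List.mem_append_right _ ?_, _, hP, h1, h2, h3, hr⟩
      rw [if_pos (show 2 * k ≤ hd by omega)]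
      rw [show hd - k - k = hd - 2 * k by omega] at hw
      exact mem_pre hw
    · obtain ⟨o, hoo⟩ : ∃ o : Bool, o = true ↔ St s n R (2 * k - 1) (U ⊓ perp B (gens n (2 * k) ![x])) :=
        ⟨decide _, decide_eq_true_iff⟩
      obtain ⟨w, hw, hr⟩ := IHm (hd - k) _ h3 (by omega)
        (killed_of_not_st_even h hk h3 hkill₀ (hno.mono inf_le_left) hx2) o hoo
      refine ⟨_ :: w, List.mem_append_left _ (List.mem_append_right _ ?_), _, hP, h1, h2, h3, hr⟩
      rw [if_pos (show k ≤ hd by omega)]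
      cases o with
      | true => exact List.mem_append_left _ (List.mem_append_left _ (mem_pre hw))
      | false => exact List.mem_append_left _ (List.mem_append_right _ (mem_pre hw))

/-- Every subspace is the sum of the pieces of a word. -/
theorem exists_word (h : IsSys s n B R) {a : F} (ha : a ∉ (artin F).range) :
    ∀ (m hd : ℕ) (U : Submodule F V), Sub n B U → Module.finrank F U = 2 * hd → (∀ x ∈ U, (n ^ m) x = 0) →
      ∀ o : Bool, (o = true ↔ St s n R m U) → ∃ w ∈ words s m hd o, Real s n B R a w U := by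
  intro m
  induction m with
  | zero =>
    intro hd U _ hfr hkill o ho
    have hbot : U = ⊥ := eq_bot_iff.2 fun x hx => (Submodule.mem_bot F).2 (by simpa using hkill x hx)
    have h0 : hd = 0 := by rw [hbot, finrank_bot] at hfr; omega
    have ho' : o = false := Bool.eq_false_iff.2 fun e => by
      obtain ⟨-, x, hx, hne⟩ := ho.1 e
      rw [hbot, Submodule.mem_bot] at hx
      exact hne (by rw [hx, h.qf_zero])
    exact ⟨[], by rw [words, if_pos ⟨h0, ho'⟩]; exact List.mem_singleton_self _, hbot⟩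
  | succ m ihm =>
    intro hd
    induction hd using Nat.strong_induction_on with
    | _ hd ihh =>
      intro U hU hfr hkill o ho
      rcases Nat.even_or_odd (m + 1) with ⟨k, hk⟩ | ⟨k, hk⟩
      · obtain rfl : m = 2 * k - 1 := by omega
        have hk1 : 1 ≤ k := by omega
        rw [show 2 * k - 1 + 1 = 2 * k by omega] at *
        exact exists_word_even h ha hk1 hU hfr hkill o ho ihm fun h₀ U₀ hlt => ihh h₀ hlt U₀
      · obtain rfl : m = 2 * k := by omega
        exact exists_word_odd h ha hU hfr hkill o ho ihm fun h₀ U₀ hlt => ihh h₀ hlt U₀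

end Exists

end

end Cfsg.Lib.Linear.UniTwo
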